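import Groth.Agent.L05.Mil.Flat
import Groth.Agent.L05.Glue.Algebra
import Mathlib.RingTheory.RingHom.Smooth
import Mathlib.RingTheory.Smooth.Fiber
import Mathlib.RingTheory.LocalRing.ResidueField.Fiber

/-!
# Milnor squares: algebras and the relative situation
-/

universe u

open TensorProduct

namespace Groth.L05.Mil

open EtMil

section Pushout

variable {B' A' D' C' : Type u} [CommRing B'] [CommRing A'] [CommRing D'] [CommRing C']
  [Algebra B' A'] [Algebra B' D'] [Algebra A' C'] [Algebra D' C'] [Algebra B' C']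
  [IsScalarTower B' A' C'] [IsScalarTower B' D' C'] [Algebra.IsPushout B' A' D' C']

theorem image_map_ker_eq {B A : Type u} [CommRing B] [CommRing A] [Algebra B' B] [Algebra B A]
    [Algebra A' A] [Algebra B' A] [IsScalarTower B' B A] [IsScalarTower B' A' A]
    (h : LiftKer B' B A' A) :
    (algebraMap D' C') '' ((RingHom.ker (algebraMap B' B)).map (algebraMap B' D') : Set D') =
      ((RingHom.ker (algebraMap A' A)).map (algebraMap A' C') : Set C') := by
  set J := (RingHom.ker (algebraMap B' B)).map (algebraMap B' D') with hJ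
  have hsub : ∀ j ∈ RingHom.ker (algebraMap B' B),
      algebraMap B' A' j ∈ RingHom.ker (algebraMap A' A) := fun j hj => by
    rw [RingHom.mem_ker, ← IsScalarTower.algebraMap_apply, IsScalarTower.algebraMap_apply B' B A,
      RingHom.mem_ker.mp hj, map_zero]
  apply le_antisymm
  · rintro _ ⟨d, hd, rfl⟩
    have h1 : J ≤ ((RingHom.ker (algebraMap A' A)).map (algebraMap A' C')).comap (algebraMap D' C') := by
      rw [hJ, Ideal.map_le_iff_le_comap]
      intro j hj
      rw [Ideal.mem_comap, Ideal.mem_comap, ← IsScalarTower.algebraMap_apply,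
        IsScalarTower.algebraMap_apply B' A' C']
      exact Ideal.mem_map_of_mem _ (hsub j hj)
    exact h1 hd
  · intro c hc
    have hmul : ∀ (a : A') (x : D'), x ∈ J → algebraMap A' C' a * algebraMap D' C' x ∈
        algebraMap D' C' '' (J : Set D') := by
      intro a x hx
      revert a
      rw [hJ, Ideal.map, ← Ideal.submodule_span_eq] at hx
      induction hx using Submodule.span_induction with
      | mem x hx =>
        intro a
        obtain ⟨j, hj, rfl⟩ := hx
        obtain ⟨c₀, hc₀, hc₀'⟩ := h.lift (algebraMap B' A' j * a) (by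
          rw [map_mul, RingHom.mem_ker.mp (hsub j hj), zero_mul])
        refine ⟨algebraMap B' D' c₀, Ideal.mem_map_of_mem _ hc₀, ?_⟩
        rw [← IsScalarTower.algebraMap_apply, ← IsScalarTower.algebraMap_apply,
          IsScalarTower.algebraMap_apply B' A' C', hc₀', map_mul,
          IsScalarTower.algebraMap_apply B' A' C' j, mul_comm]
      | zero => intro a; exact ⟨0, zero_mem _, by simp⟩
      | add x y _ _ hx hy =>
        intro a
        obtain ⟨p, hp, hp'⟩ := hx a
        obtain ⟨q, hq, hq'⟩ := hy a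
        exact ⟨p + q, add_mem hp hq, by rw [map_add, map_add, hp', hq', mul_add]⟩
      | smul r x _ hx =>
        intro a
        obtain ⟨p, hp, hp'⟩ := hx a
        exact ⟨r * p, Ideal.mul_mem_left _ _ hp, by rw [map_mul, hp', smul_eq_mul, map_mul]; ring⟩
    rw [SetLike.mem_coe, Ideal.map, ← Ideal.submodule_span_eq] at hc
    induction hc using Submodule.span_induction with
    | mem c hc =>
      obtain ⟨i, hi, rfl⟩ := hc
      obtain ⟨j, hj, rfl⟩ := h.lift i hi
      exact ⟨algebraMap B' D' j, Ideal.mem_map_of_mem _ hj, by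
        rw [← IsScalarTower.algebraMap_apply, ← IsScalarTower.algebraMap_apply]⟩
    | zero => exact ⟨0, zero_mem _, map_zero _⟩
    | add x y _ _ hx hy =>
      obtain ⟨p, hp, rfl⟩ := hx
      obtain ⟨q, hq, rfl⟩ := hy
      exact ⟨p + q, add_mem hp hq, map_add _ _ _⟩
    | smul r x _ hx =>
      obtain ⟨p, hp, rfl⟩ := hx
      obtain ⟨z, rfl⟩ := (Algebra.IsPushout.equiv B' A' D' C').surjective r
      induction z using TensorProduct.induction_on with
      | zero =>
        rw [map_zero]
        exact ⟨0, zero_mem _, by simp⟩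
      | tmul a d =>
        rw [Algebra.IsPushout.equiv_tmul]
        obtain ⟨q, hq, hq'⟩ := hmul a (d * p) (Ideal.mul_mem_left _ _ hp)
        exact ⟨q, hq, by rw [hq', map_mul, smul_eq_mul, mul_assoc]⟩
      | add x y hx hy =>
        rw [map_add]
        obtain ⟨s, hs, hs'⟩ := hx
        obtain ⟨t, ht, ht'⟩ := hy
        exact ⟨s + t, add_mem hs ht, by rw [map_add, hs', ht', add_smul]⟩

end Pushout

section Relative

variable {B' B A' A : Type u} [CommRing B'] [CommRing B] [CommRing A'] [CommRing A]
  [Algebra B' B] [Algebra B' A'] [Algebra B A] [Algebra A' A] [Algebra B' A]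
  [IsScalarTower B' B A] [IsScalarTower B' A' A]
  {D' D C' C : Type u} [CommRing D'] [CommRing D] [CommRing C'] [CommRing C]
  [Algebra B' D'] [Algebra B D] [Algebra A' C'] [Algebra A C]
  [Algebra D' D] [Algebra B' D] [IsScalarTower B' B D] [IsScalarTower B' D' D] [Algebra.IsPushout B' B D' D]
  [Algebra D' C'] [Algebra B' C'] [IsScalarTower B' A' C'] [IsScalarTower B' D' C'] [Algebra.IsPushout B' A' D' C']
  [Algebra D' C] [Algebra B' C] [IsScalarTower B' A C] [IsScalarTower B' D' C] [Algebra.IsPushout B' A D' C]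
  [Algebra D C] [IsScalarTower D' D C]
  [Algebra C' C] [IsScalarTower D' C' C] [Algebra A' C] [IsScalarTower A' A C] [IsScalarTower A' C' C]

theorem liftKer_relative (h : LiftKer B' B A' A) : LiftKer D' D C' C := by
  refine ⟨fun c => ?_, fun d => ?_, fun i hi => ?_⟩
  · obtain ⟨z, rfl⟩ := (Algebra.IsPushout.equiv B' A D' C).surjective c
    induction z using TensorProduct.induction_on with
    | zero =>
      rw [map_zero]
      exact ⟨0, map_zero _⟩
    | tmul a d =>
      rw [Algebra.IsPushout.equiv_tmul]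
      obtain ⟨a', rfl⟩ := h.surj a
      exact ⟨algebraMap A' C' a' * algebraMap D' C' d, by
        rw [map_mul, ← IsScalarTower.algebraMap_apply, ← IsScalarTower.algebraMap_apply,
          IsScalarTower.algebraMap_apply A' A C]⟩
    | add x y hx hy =>
      rw [map_add]
      obtain ⟨p, hp⟩ := hx
      obtain ⟨q, hq⟩ := hy
      exact ⟨p + q, by rw [map_add, hp, hq]⟩
  · obtain ⟨z, rfl⟩ := (Algebra.IsPushout.equiv B' B D' D).surjective d
    induction z using TensorProduct.induction_on with
    | zero =>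
      rw [map_zero]
      exact ⟨0, map_zero _⟩
    | tmul b d =>
      rw [Algebra.IsPushout.equiv_tmul]
      obtain ⟨b', rfl⟩ := h.surjB b
      exact ⟨algebraMap B' D' b' * d, by
        rw [map_mul, ← IsScalarTower.algebraMap_apply, ← IsScalarTower.algebraMap_apply]⟩
    | add x y hx hy =>
      rw [map_add]
      obtain ⟨p, hp⟩ := hx
      obtain ⟨q, hq⟩ := hy
      exact ⟨p + q, by rw [map_add, hp, hq]⟩
  · let eB := Algebra.IsPushout.equiv B' B D' D
    let eA := Algebra.IsPushout.equiv B' A' D' C'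
    let eC := Algebra.IsPushout.equiv B' A D' C
    have h1 : ∀ y, eC ((IsScalarTower.toAlgHom B' A' A).toLinearMap.rTensor D' y) =
        algebraMap C' C (eA y) := by
      intro y
      induction y using TensorProduct.induction_on with
      | zero => simp
      | tmul a d =>
        simp only [LinearMap.rTensor_tmul, AlgHom.toLinearMap_apply, IsScalarTower.coe_toAlgHom', eA, eC,
          Algebra.IsPushout.equiv_tmul, map_mul]
        rw [← IsScalarTower.algebraMap_apply, ← IsScalarTower.algebraMap_apply,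
          ← IsScalarTower.algebraMap_apply]
      | add x y hx hy => simp only [map_add, hx, hy]
    obtain ⟨y, rfl⟩ := eA.surjective i
    obtain ⟨d, hd, hd'⟩ := exists_of_rTensor_eq_zero h y
      (eC.injective (by rw [h1, hi, map_zero]))
    refine ⟨d, ?_, ?_⟩
    · have h2 := congrArg eB hd'
      simpa [eB, Algebra.IsPushout.equiv_tmul] using h2
    · rw [← hd]; simp [eA, Algebra.IsPushout.equiv_tmul]

theorem finitePresentation_glue_relative (h : IsFibreSquare B' B A' A)
    {N M' : Type u} [AddCommGroup N] [Module D N] [Module D' N] [IsScalarTower D' D N]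
    [AddCommGroup M'] [Module C' M'] [Module D' M'] [IsScalarTower D' C' M']
    (φ : C ⊗[D] N ≃ₗ[C] C ⊗[C'] M')
    [Module B N] [IsScalarTower B D N] [Module A' M'] [IsScalarTower A' C' M']
    [Module.FinitePresentation D N] [Module.Flat B N] [Module.FinitePresentation C' M']
    [Module.Flat A' M'] : Module.FinitePresentation D' (glue D' φ) := by
  have hrel : LiftKer D' D C' C := liftKer_relative (liftKer_of_isFibreSquare h)
  haveI := finite_glue φ hrel
  set G := ↥(glue D' φ)
  letI : Module B' G := Module.compHom G (algebraMap B' D')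
  haveI : IsScalarTower B' D' G := IsScalarTower.of_algebraMap_smul fun _ _ => rfl
  let eD := LinearEquiv.ofBijective _ (bijective_liftBaseChange_glueFst φ hrel)
  let eC := LinearEquiv.ofBijective _ (bijective_liftBaseChange_glueSnd φ hrel)
  haveI : Module.Flat B (B ⊗[B'] G) := Module.Flat.of_linearEquiv
    ((Algebra.IsPushout.cancelBaseChange B' B D' D G).symm.trans (eD.restrictScalars B))
  haveI : Module.Flat A' (A' ⊗[B'] G) := Module.Flat.of_linearEquiv
    ((Algebra.IsPushout.cancelBaseChange B' A' D' C' G).symm.trans (eC.restrictScalars A'))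
  haveI : Module.Flat B' G := flat_of_both h G
  haveI : Module.FinitePresentation D (D ⊗[D'] G) := Module.FinitePresentation.of_equiv eD.symm
  haveI : Module.FinitePresentation C' (C' ⊗[D'] G) := Module.FinitePresentation.of_equiv eC.symm
  obtain ⟨n, π, hπ⟩ := Module.Finite.exists_fin' D' G
  obtain ⟨K, _, _, _, _, i, hi, hex, hKfin⟩ : ∃ (K : Type u) (_ : AddCommGroup K) (_ : Module D' K)
      (_ : Module B' K) (_ : IsScalarTower B' D' K) (i : K →ₗ[D'] (Fin n → D')),
      Function.Injective i ∧ Function.Exact i π ∧ (Module.Finite D' K → (LinearMap.ker π).FG) :=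
    ⟨↥(LinearMap.ker π), inferInstance, inferInstance, inferInstance, inferInstance,
      (LinearMap.ker π).subtype, Submodule.injective_subtype _, LinearMap.exact_subtype_ker_map π,
      fun h => Module.Finite.iff_fg.mp h⟩
  refine Module.finitePresentation_of_surjective π hπ (hKfin ?_)
  have key : ∀ (S T : Type u) [CommRing S] [CommRing T] [Algebra B' S] [Algebra D' T] [Algebra S T]
      [Algebra B' T] [IsScalarTower B' S T] [IsScalarTower B' D' T] [Algebra.IsPushout B' S D' T]
      [Module.FinitePresentation T (T ⊗[D'] G)], Module.Finite T (T ⊗[D'] K) := by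
    intro S T _ _ _ _ _ _ _ _ _ _
    refine finite_baseChange_ker T i π hex hπ ?_
    have h1 : Function.Injective ((i.restrictScalars B').lTensor S) :=
      Groth.L05.Glue.lTensor_injective_of_flat_coker (i.restrictScalars B') (π.restrictScalars B')
        hi hex hπ S
    let eK := Algebra.IsPushout.cancelBaseChange B' S D' T K
    let eP := Algebra.IsPushout.cancelBaseChange B' S D' T (Fin n → D')
    have hnat : ∀ w, (i.restrictScalars B').lTensor S w = eP (i.lTensor T (eK.symm w)) := by
      intro w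
      rw [← LinearEquiv.symm_apply_eq]
      induction w using TensorProduct.induction_on with
      | zero => simp
      | tmul s k => simp [eK, eP]
      | add x y hx hy => simp only [map_add, hx, hy]
    intro a b hab
    obtain ⟨a, rfl⟩ := eK.symm.surjective a
    obtain ⟨b, rfl⟩ := eK.symm.surjective b
    have h2 : (i.restrictScalars B').lTensor S a = (i.restrictScalars B').lTensor S b := by
      rw [hnat, hnat, hab]
    rw [h1 h2]
  haveI := key B D
  haveI := key A' C'
  obtain ⟨N₁, hN₁, hs₁⟩ := Groth.L05.Glue.exists_fg_lTensor_surjective (R := D') D K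
  obtain ⟨N₂, hN₂, hs₂⟩ := Groth.L05.Glue.exists_fg_lTensor_surjective (R := D') C' K
  refine ⟨?_⟩
  rw [show (⊤ : Submodule D' K) = N₁ ⊔ N₂ from (eq_top_iff.mpr fun k _ => ?_).symm]
  · exact hN₁.sup hN₂
  have hz₁ : ∀ q : K ⧸ (N₁ ⊔ N₂), (1 : B) ⊗ₜ[B'] q = 0 := fun q => by
    have h1 := tmul_mk_eq_zero (N₁ ⊔ N₂)
      (Groth.L05.Glue.lTensor_subtype_surjective_mono D le_sup_left hs₁) q
    have h2 := congrArg (Algebra.IsPushout.cancelBaseChange B' B D' D _) h1
    rwa [Algebra.IsPushout.cancelBaseChange_tmul, map_zero] at h2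
  have hz₂ : ∀ q : K ⧸ (N₁ ⊔ N₂), (1 : A') ⊗ₜ[B'] q = 0 := fun q => by
    have h1 := tmul_mk_eq_zero (N₁ ⊔ N₂)
      (Groth.L05.Glue.lTensor_subtype_surjective_mono C' le_sup_right hs₂) q
    have h2 := congrArg (Algebra.IsPushout.cancelBaseChange B' A' D' C' _) h1
    rwa [Algebra.IsPushout.cancelBaseChange_tmul, map_zero] at h2
  exact (Submodule.Quotient.mk_eq_zero _).mp (eq_zero_of_tmul_eq_zero h hz₁ hz₂ _)

end Relative

section Absolute

variable {B' B A' A : Type u} [CommRing B'] [CommRing B] [CommRing A'] [CommRing A]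
  [Algebra B' B] [Algebra B' A'] [Algebra B A] [Algebra A' A] [Algebra B' A]
  [IsScalarTower B' B A] [IsScalarTower B' A' A]
  {D' D C' C : Type u} [CommRing D'] [CommRing D] [CommRing C'] [CommRing C]
  [Algebra D' D] [Algebra D' C'] [Algebra D C] [Algebra C' C] [Algebra D' C] [IsScalarTower D' D C]
  [IsScalarTower D' C' C]
  [Algebra B' D'] [Algebra B D] [Algebra A' C'] [Algebra A C]
  [Algebra B' D] [IsScalarTower B' B D] [IsScalarTower B' D' D]
  [Algebra B' C'] [IsScalarTower B' A' C'] [IsScalarTower B' D' C']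
  [Algebra B C] [IsScalarTower B A C] [IsScalarTower B D C]
  [Algebra A' C] [IsScalarTower A' A C] [IsScalarTower A' C' C]
  [Algebra.IsPushout B D A C] [Algebra.IsPushout A' C' A C]

theorem isPushout_of_fibreSquare (h : IsFibreSquare B' B A' A) (h' : IsFibreSquare D' D C' C) :
    Algebra.IsPushout B' D' B D ∧ Algebra.IsPushout B' D' A' C' := by
  haveI : Algebra.IsPushout B A D C := Algebra.IsPushout.symm inferInstance
  haveI : Algebra.IsPushout A' A C' C := Algebra.IsPushout.symm inferInstance
  let φ : A ⊗[B] D ≃ₗ[A] A ⊗[A'] C' :=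
    ((Algebra.IsPushout.equiv B A D C).trans (Algebra.IsPushout.equiv A' A C' C).symm).toLinearEquiv
  have hmem : ∀ (d : D) (c : C'), φ ((1 : A) ⊗ₜ[B] d) = (1 : A) ⊗ₜ[A'] c ↔
      algebraMap D C d = algebraMap C' C c := fun d c => by
    show (Algebra.IsPushout.equiv A' A C' C).symm (Algebra.IsPushout.equiv B A D C ((1 : A) ⊗ₜ[B] d)) = _ ↔ _
    rw [AlgEquiv.symm_apply_eq, Algebra.IsPushout.equiv_tmul, Algebra.IsPushout.equiv_tmul]
    simp
  let g : D' →ₗ[B'] glue B' φ :=
    LinearMap.codRestrict _ ((IsScalarTower.toAlgHom B' D' D).toLinearMap.prod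
      (IsScalarTower.toAlgHom B' D' C').toLinearMap) fun x => (hmem _ _).mpr (by
        show algebraMap D C (algebraMap D' D x) = algebraMap C' C (algebraMap D' C' x)
        rw [← IsScalarTower.algebraMap_apply, ← IsScalarTower.algebraMap_apply])
  have hg : Function.Bijective g := by
    refine ⟨fun x y hxy => ?_, fun ⟨⟨d, c⟩, hdc⟩ => ?_⟩
    · have h1 : algebraMap D' D x = algebraMap D' D y := congrArg (fun z => z.1.1) hxy
      have h2 : algebraMap D' C' x = algebraMap D' C' y := congrArg (fun z => z.1.2) hxy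
      exact (h'.2 _ _ (by rw [← IsScalarTower.algebraMap_apply, ← IsScalarTower.algebraMap_apply])).unique
        ⟨rfl, rfl⟩ ⟨h1.symm, h2.symm⟩
    · obtain ⟨x, ⟨hx₁, hx₂⟩, -⟩ := h'.2 d c ((hmem d c).mp hdc)
      exact ⟨x, Subtype.ext (Prod.ext hx₁ hx₂)⟩
  let e := LinearEquiv.ofBijective g hg
  have h1 := bijective_liftBaseChange_glueFst φ (liftKer_of_isFibreSquare h)
  have h2 := bijective_liftBaseChange_glueSnd φ (liftKer_of_isFibreSquare h)
  constructor
  · refine Algebra.IsPushout.symm (R' := D') ⟨?_⟩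
    refine IsBaseChange.of_equiv ((e.baseChange B' B).trans (LinearEquiv.ofBijective _ h1)) fun x => ?_
    simp [e, g, glueFst]
  · refine Algebra.IsPushout.symm (R' := D') ⟨?_⟩
    refine IsBaseChange.of_equiv ((e.baseChange B' A').trans (LinearEquiv.ofBijective _ h2)) fun x => ?_
    simp [e, g, glueSnd]

end Absolute

section Props

variable {B' B A' A : Type u} [CommRing B'] [CommRing B] [CommRing A'] [CommRing A]
  [Algebra B' B] [Algebra B' A'] [Algebra B A] [Algebra A' A] [Algebra B' A]
  [IsScalarTower B' B A] [IsScalarTower B' A' A] (D' : Type u) [CommRing D'] [Algebra B' D']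

theorem finiteType_of_both (h : IsFibreSquare B' B A' A) [Algebra.FiniteType B (B ⊗[B'] D')]
    [Algebra.FiniteType A' (A' ⊗[B'] D')] : Algebra.FiniteType B' D' := by
  obtain ⟨T₁, hT₁, hs₁⟩ := Groth.L05.Glue.exists_fg_subalgebra (A := B') D' B
  obtain ⟨T₂, hT₂, hs₂⟩ := Groth.L05.Glue.exists_fg_subalgebra (A := B') D' A'
  have h' := eq_top_of_both h (T₁ ⊔ T₂).toSubmodule
    (Groth.L05.Glue.lTensor_subtype_surjective_mono B (fun x hx => (le_sup_left : T₁ ≤ T₁ ⊔ T₂) hx) hs₁)
    (Groth.L05.Glue.lTensor_subtype_surjective_mono A' (fun x hx => (le_sup_right : T₂ ≤ T₁ ⊔ T₂) hx) hs₂)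
  refine ⟨?_⟩
  rw [show (⊤ : Subalgebra B' D') = T₁ ⊔ T₂ from
    Subalgebra.toSubmodule_injective (by rw [h', Algebra.top_toSubmodule])]
  exact hT₁.sup hT₂

theorem algebra_finitePresentation_of_both (h : IsFibreSquare B' B A' A) [Module.Flat B' D']
    [Algebra.FinitePresentation B (B ⊗[B'] D')] [Algebra.FinitePresentation A' (A' ⊗[B'] D')] :
    Algebra.FinitePresentation B' D' := by
  have hft := finiteType_of_both D' h
  obtain ⟨n, π, hπ⟩ := Algebra.FiniteType.iff_quotient_mvPolynomial''.mp hft
  obtain ⟨J₁, hJ₁, hle₁, hs₁⟩ := Groth.L05.Glue.exists_fg_subideal D' π hπ B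
  obtain ⟨J₂, hJ₂, hle₂, hs₂⟩ := Groth.L05.Glue.exists_fg_subideal D' π hπ A'
  have h3 := eq_top_of_both h (Submodule.comap ((RingHom.ker π).restrictScalars B').subtype
      ((J₁ ⊔ J₂).restrictScalars B'))
    (Groth.L05.Glue.lTensor_subtype_surjective_mono B (fun x hx => (le_sup_left : J₁ ≤ J₁ ⊔ J₂) hx) hs₁)
    (Groth.L05.Glue.lTensor_subtype_surjective_mono A' (fun x hx => (le_sup_right : J₂ ≤ J₁ ⊔ J₂) hx) hs₂)
  have h4 : RingHom.ker π = J₁ ⊔ J₂ := le_antisymm (fun x hx => by
      have h5 : (⟨x, hx⟩ : ↥((RingHom.ker π).restrictScalars B')) ∈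
          (⊤ : Submodule B' ↥((RingHom.ker π).restrictScalars B')) := Submodule.mem_top
      rw [← h3] at h5
      exact h5) (sup_le hle₁ hle₂)
  exact Algebra.FinitePresentation.of_surjective hπ
    (show (RingHom.ker π).FG from h4 ▸ Submodule.FG.sup hJ₁ hJ₂)

theorem formallyUnramified_of_both (h : IsFibreSquare B' B A' A)
    [Algebra.FormallyUnramified B (B ⊗[B'] D')] [Algebra.FormallyUnramified A' (A' ⊗[B'] D')] :
    Algebra.FormallyUnramified B' D' := by
  letI := Algebra.TensorProduct.rightAlgebra (R := B') (A := B) (B := D')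
  letI := Algebra.TensorProduct.rightAlgebra (R := B') (A := A') (B := D')
  haveI : Subsingleton (B ⊗[B'] Ω[D'⁄B']) :=
    (KaehlerDifferential.tensorKaehlerEquivBase B' B D' (B ⊗[B'] D')).toEquiv.subsingleton
  haveI : Subsingleton (A' ⊗[B'] Ω[D'⁄B']) :=
    (KaehlerDifferential.tensorKaehlerEquivBase B' A' D' (A' ⊗[B'] D')).toEquiv.subsingleton
  refine ⟨⟨fun x y => ?_⟩⟩
  rw [← sub_eq_zero]
  exact eq_zero_of_tmul_eq_zero h (fun _ => Subsingleton.elim _ _) (fun _ => Subsingleton.elim _ _) _

omit [Algebra B' D'] in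
theorem residueField_map_surjective {R S : Type u} [CommRing R] [CommRing S] (f : R →+* S)
    (q : Ideal S) [q.IsPrime] (p : Ideal R) [p.IsPrime] (hp : p = q.comap f)
    (hs : ∀ a : S, ∃ r s : R, f s ∉ q ∧ f r - f s * a ∈ q) :
    Function.Bijective (Ideal.ResidueField.map p q f hp) := by
  set ρ := Ideal.ResidueField.map p q f hp
  refine ⟨RingHom.injective _, fun x => ?_⟩
  have key : ∀ a : S, ∃ y, ρ y = algebraMap S q.ResidueField a := by
    intro a
    obtain ⟨r, s, hsq, hrs⟩ := hs a
    refine ⟨algebraMap R _ r / algebraMap R _ s, ?_⟩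
    have h0 : algebraMap S q.ResidueField (f s) ≠ 0 := fun h =>
      hsq (Ideal.algebraMap_residueField_eq_zero.mp h)
    rw [map_div₀, Ideal.ResidueField.map_algebraMap, Ideal.ResidueField.map_algebraMap,
      div_eq_iff h0, ← map_mul, ← sub_eq_zero, ← map_sub, Ideal.algebraMap_residueField_eq_zero,
      mul_comm]
    exact hrs
  obtain ⟨a, b, -, rfl⟩ := IsFractionRing.div_surjective (A := S ⧸ q) x
  obtain ⟨a, rfl⟩ := Ideal.Quotient.mk_surjective a
  obtain ⟨b, rfl⟩ := Ideal.Quotient.mk_surjective b
  obtain ⟨y, hy⟩ := key a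
  obtain ⟨z, hz⟩ := key b
  exact ⟨y / z, by rw [map_div₀, hy, hz, Ideal.algebraMap_quotient_residueField_mk,
    Ideal.algebraMap_quotient_residueField_mk]⟩

theorem formallySmooth_fiber {S : Type u} [CommRing S] [Algebra B' S] (q : Ideal S) [q.IsPrime]
    (p : Ideal B') [p.IsPrime] (hp : p = q.comap (algebraMap B' S))
    (hbij : Function.Bijective (Ideal.ResidueField.map p q (algebraMap B' S) hp))
    [Algebra.Smooth S (S ⊗[B'] D')] :
    Algebra.FormallySmooth p.ResidueField (p.Fiber D') := by
  let ρ : p.ResidueField →ₐ[B'] q.ResidueField :=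
    { Ideal.ResidueField.map p q (algebraMap B' S) hp with
      commutes' := fun r => by
        show Ideal.ResidueField.map p q (algebraMap B' S) hp (algebraMap B' p.ResidueField r) = _
        rw [Ideal.ResidueField.map_algebraMap, ← IsScalarTower.algebraMap_apply] }
  let ρe := AlgEquiv.ofBijective ρ hbij
  haveI : Algebra.FormallySmooth q.ResidueField (q.ResidueField ⊗[B'] D') :=
    Algebra.FormallySmooth.of_equiv
      (Algebra.TensorProduct.cancelBaseChange B' S q.ResidueField q.ResidueField D')
  have h1 : (algebraMap q.ResidueField (q.ResidueField ⊗[B'] D')).FormallySmooth :=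
    RingHom.formallySmooth_algebraMap.mpr inferInstance
  let e := Algebra.TensorProduct.congr ρe.symm (AlgEquiv.refl : D' ≃ₐ[B'] D')
  have h2 := RingHom.FormallySmooth.respectsIso.2 _ ρe.toRingEquiv h1
  have h3 := RingHom.FormallySmooth.respectsIso.1 _ e.toRingEquiv h2
  rw [← RingHom.formallySmooth_algebraMap]
  convert h3 using 1
  refine RingHom.ext fun x => ?_
  show x ⊗ₜ[B'] (1 : D') = e ((ρe x) ⊗ₜ[B'] (1 : D'))
  simp [e]

theorem smooth_of_both (h : IsFibreSquare B' B A' A) [Module.Flat B' D'] [Algebra.Smooth B (B ⊗[B'] D')]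
    [Algebra.Smooth A' (A' ⊗[B'] D')] : Algebra.Smooth B' D' := by
  haveI := algebra_finitePresentation_of_both D' h
  refine Algebra.Smooth.of_formallySmooth_fiber fun p _ => ?_
  by_cases hp : RingHom.ker (algebraMap B' B) ≤ p
  · have hsB := (liftKer_of_isFibreSquare h).surjB
    haveI : (p.map (algebraMap B' B)).IsPrime := Ideal.map_isPrime_of_surjective hsB hp
    have hcomap : p = (p.map (algebraMap B' B)).comap (algebraMap B' B) := by
      rw [Ideal.comap_map_of_surjective _ hsB, sup_eq_left.mpr]
      rwa [← RingHom.ker_eq_comap_bot]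
    refine formallySmooth_fiber D' (p.map (algebraMap B' B)) p hcomap ?_
    refine residueField_map_surjective (algebraMap B' B) _ p hcomap fun a => ?_
    obtain ⟨r, rfl⟩ := hsB a
    exact ⟨r, 1, by rw [map_one]; exact (Ideal.ne_top_iff_one _).mp Ideal.IsPrime.ne_top', by simp⟩
  · obtain ⟨j, hj, hjp⟩ := SetLike.not_le_iff_exists.mp hp
    have hc : ∀ a : A', ∃! c, algebraMap B' B c = 0 ∧ algebraMap B' A' c = algebraMap B' A' j * a :=
      fun a => h.2 0 _ (by
        rw [map_zero, map_mul, ← IsScalarTower.algebraMap_apply, IsScalarTower.algebraMap_apply B' B A,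
          RingHom.mem_ker.mp hj, map_zero, zero_mul])
    choose c hc hcu using hc
    have hcadd : ∀ a b, c (a + b) = c a + c b := fun a b => (hcu _ _
      ⟨by rw [map_add, (hc a).1, (hc b).1, add_zero], by rw [map_add, (hc a).2, (hc b).2, mul_add]⟩).symm
    have hcr : ∀ (r : B') (a : A'), r * c a = c (algebraMap B' A' r * a) := fun r a => hcu _ _
      ⟨by rw [map_mul, (hc a).1, mul_zero], by rw [map_mul, (hc a).2]; ring⟩
    have hc1 : c 1 = j := (hcu 1 j ⟨RingHom.mem_ker.mp hj, (mul_one _).symm⟩).symm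
    have hcmul : ∀ a b, c a * c b = j * c (a * b) := fun a b => by
      rw [hcr (c a) b, (hc a).2, hcr j (a * b)]
      congr 1; ring
    let q : Ideal A' :=
      { carrier := {a | c a ∈ p}
        add_mem' := fun {a b} ha hb => show c (a + b) ∈ p from hcadd a b ▸ add_mem ha hb
        zero_mem' := show c 0 ∈ p by
          rw [(hcu 0 0 ⟨map_zero _, by rw [map_zero, mul_zero]⟩).symm]; exact zero_mem p
        smul_mem' := fun r a ha => show c (r * a) ∈ p from
          (Ideal.IsPrime.mem_or_mem inferInstance (hcmul r a ▸ Ideal.mul_mem_left p (c r) ha)).resolve_left hjp }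
    haveI : q.IsPrime := by
      refine ⟨(Ideal.ne_top_iff_one _).mpr (fun h1 => hjp (hc1 ▸ h1)), fun {a b} hab => ?_⟩
      have hab' : c (a * b) ∈ p := hab
      exact (show c a ∈ p ∨ c b ∈ p from Ideal.IsPrime.mem_or_mem ‹p.IsPrime›
        (hcmul a b ▸ Ideal.mul_mem_left p j hab'))
    have hcomap : p = q.comap (algebraMap B' A') := by
      ext r
      show r ∈ p ↔ c (algebraMap B' A' r) ∈ p
      rw [← mul_one (algebraMap B' A' r), ← hcr, hc1]
      exact ⟨fun h => Ideal.mul_mem_right _ _ h,
        fun h => (Ideal.IsPrime.mem_or_mem inferInstance h).resolve_right hjp⟩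
    refine formallySmooth_fiber D' q p hcomap ?_
    exact residueField_map_surjective (algebraMap B' A') q p hcomap fun a =>
      ⟨c a, j, fun hjq => hjp (by rw [hcomap]; exact hjq), by rw [(hc a).2, sub_self]; exact zero_mem q⟩

end Props

end Groth.L05.Mil
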