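import Groth.Prelude.Def_EtMil
import Mathlib.LinearAlgebra.TensorProduct.RightExactness
import Mathlib.RingTheory.Finiteness.Basic
import Mathlib.RingTheory.Ideal.Maps
import Mathlib.Tactic.Module

/-!
# Milnor squares: elementary properties
-/

universe u

open TensorProduct

namespace Groth.L05.Mil

open EtMil

section Square

variable (B' B A' A : Type u) [CommRing B'] [CommRing B] [CommRing A'] [CommRing A]
  [Algebra B' B] [Algebra B' A'] [Algebra B A] [Algebra A' A] [Algebra B' A]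
  [IsScalarTower B' B A] [IsScalarTower B' A' A]

/-- The part of the fibre square property needed for glueing: both horizontal maps are surjective
and the kernels correspond. -/
structure LiftKer : Prop where
  surj : Function.Surjective (algebraMap A' A)
  surjB : Function.Surjective (algebraMap B' B)
  lift : ∀ i, algebraMap A' A i = 0 → ∃ j, algebraMap B' B j = 0 ∧ algebraMap B' A' j = i

variable {B' B A' A}

theorem liftKer_of_isFibreSquare (h : IsFibreSquare B' B A' A) : LiftKer B' B A' A := by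
  refine ⟨h.1, fun b => ?_, fun i hi => ?_⟩
  · obtain ⟨a, ha⟩ := h.1 (algebraMap B A b)
    obtain ⟨b', ⟨hb', -⟩, -⟩ := h.2 b a ha.symm
    exact ⟨b', hb'⟩
  · obtain ⟨j, hj, -⟩ := h.2 0 i (by rw [map_zero, hi])
    exact ⟨j, hj⟩

theorem tmul_smul_of_algebraMap {S : Type u} [CommRing S] [Algebra B' S] {M : Type u} [AddCommGroup M]
    [Module B' M] (j : B') (m : M) :
    algebraMap B' S j ⊗ₜ[B'] m = (1 : S) ⊗ₜ[B'] (j • m) := by
  rw [Algebra.algebraMap_eq_smul_one, smul_tmul]

variable {L : Type u} [AddCommGroup L] [Module B' L]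

theorem exists_tmul_eq (h : LiftKer B' B A' A) (x : B ⊗[B'] L) :
    ∃ l, (1 : B) ⊗ₜ[B'] l = x := by
  induction x using TensorProduct.induction_on with
  | zero => exact ⟨0, tmul_zero _ _⟩
  | tmul b l =>
    obtain ⟨b', rfl⟩ := h.surjB b
    exact ⟨b' • l, (tmul_smul_of_algebraMap b' l).symm⟩
  | add x y hx hy =>
    obtain ⟨p, rfl⟩ := hx
    obtain ⟨q, rfl⟩ := hy
    exact ⟨p + q, tmul_add _ _ _⟩

theorem exists_of_rTensor_eq_zero (h : LiftKer B' B A' A) (y : A' ⊗[B'] L)
    (hy : (IsScalarTower.toAlgHom B' A' A).toLinearMap.rTensor L y = 0) :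
    ∃ l, (1 : A') ⊗ₜ[B'] l = y ∧ (1 : B) ⊗ₜ[B'] l = 0 := by
  obtain ⟨w, rfl⟩ := (rTensor_exact L
    (LinearMap.exact_subtype_ker_map (IsScalarTower.toAlgHom B' A' A).toLinearMap) h.surj y).mp hy
  clear hy
  induction w using TensorProduct.induction_on with
  | zero => exact ⟨0, by simp, tmul_zero _ _⟩
  | tmul i l =>
    obtain ⟨j, hj, hji⟩ := h.lift i.1 i.2
    refine ⟨j • l, ?_, ?_⟩
    · rw [← tmul_smul_of_algebraMap, hji, LinearMap.rTensor_tmul]; rfl
    · rw [← tmul_smul_of_algebraMap, hj, zero_tmul]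
  | add x y hx hy =>
    obtain ⟨p, hp, hp'⟩ := hx
    obtain ⟨q, hq, hq'⟩ := hy
    exact ⟨p + q, by rw [tmul_add, hp, hq, map_add], by rw [tmul_add, hp', hq', add_zero]⟩

/-- Pairs with matching images come from the module. -/
theorem exists_pair (h : LiftKer B' B A' A) (x : B ⊗[B'] L) (y : A' ⊗[B'] L)
    (hxy : (IsScalarTower.toAlgHom B' B A).toLinearMap.rTensor L x =
      (IsScalarTower.toAlgHom B' A' A).toLinearMap.rTensor L y) :
    ∃ l : L, (1 : B) ⊗ₜ[B'] l = x ∧ (1 : A') ⊗ₜ[B'] l = y := by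
  obtain ⟨l, rfl⟩ := exists_tmul_eq h x
  obtain ⟨k, hk, hk'⟩ := exists_of_rTensor_eq_zero h (y - (1 : A') ⊗ₜ[B'] l) (by
    rw [map_sub, ← hxy]; simp)
  exact ⟨l + k, by rw [tmul_add, hk', add_zero], by rw [tmul_add, hk, add_sub_cancel]⟩

theorem mem_smul_top_of_tmul_eq_zero (h : LiftKer B' B A' A) {l : L}
    (hl : (1 : B) ⊗ₜ[B'] l = 0) :
    l ∈ RingHom.ker (algebraMap B' B) • (⊤ : Submodule B' L) := by
  have hex := rTensor_exact L (LinearMap.exact_subtype_ker_map (Algebra.linearMap B' B)) h.surjB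
  obtain ⟨w, hw⟩ := (hex ((1 : B') ⊗ₜ[B'] l)).mp (by simpa using hl)
  have h1 : ∀ w, TensorProduct.lid B' L
      ((LinearMap.ker (Algebra.linearMap B' B)).subtype.rTensor L w) ∈
        RingHom.ker (algebraMap B' B) • (⊤ : Submodule B' L) := by
    intro w
    induction w using TensorProduct.induction_on with
    | zero => simp
    | tmul j l =>
      simp only [LinearMap.rTensor_tmul, Submodule.subtype_apply, lid_tmul]
      exact Submodule.smul_mem_smul j.2 Submodule.mem_top
    | add x y hx hy => rw [map_add, map_add]; exact add_mem hx hy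
  have h2 := h1 w
  rwa [hw, lid_tmul, one_smul] at h2

/-- The elements killed in `A' ⊗ L` are killed by the kernel of `B' → B`. -/
theorem smul_eq_zero_of_tmul_eq_zero (h : IsFibreSquare B' B A' A) {l : L}
    (hl : (1 : A') ⊗ₜ[B'] l = 0) {j : B'} (hj : algebraMap B' B j = 0) : j • l = 0 := by
  have hex : ∀ a' : A', ∃! c, algebraMap B' B c = 0 ∧ algebraMap B' A' c = algebraMap B' A' j * a' :=
    fun a' => h.2 0 _ (by
      rw [map_zero, map_mul, ← IsScalarTower.algebraMap_apply, IsScalarTower.algebraMap_apply B' B A,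
        hj, map_zero, zero_mul])
  choose c hc hcu using fun a' => (hex a')
  let C : A' →ₗ[B'] B' :=
    { toFun := c
      map_add' := fun a b => (hcu _ _ ⟨by rw [map_add, (hc a).1, (hc b).1, add_zero],
        by rw [map_add, (hc a).2, (hc b).2, mul_add]⟩).symm
      map_smul' := fun r a => (hcu _ _ ⟨by rw [RingHom.id_apply, smul_eq_mul, map_mul, (hc a).1, mul_zero],
        by rw [RingHom.id_apply, smul_eq_mul, map_mul, (hc a).2, Algebra.smul_def]; ring⟩).symm }
  have h1 : C 1 = j := (hcu 1 j ⟨hj, (mul_one _).symm⟩).symm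
  have h2 := congrArg (fun z => TensorProduct.lid B' L (C.rTensor L z)) hl
  simpa [h1] using h2

theorem eq_zero_of_tmul_eq_zero (h : IsFibreSquare B' B A' A)
    (hB : ∀ l : L, (1 : B) ⊗ₜ[B'] l = 0) (hA : ∀ l : L, (1 : A') ⊗ₜ[B'] l = 0) (l : L) : l = 0 := by
  have hl := mem_smul_top_of_tmul_eq_zero (liftKer_of_isFibreSquare h) (hB l)
  induction hl using Submodule.smul_induction_on' with
  | smul j hj m _ => exact smul_eq_zero_of_tmul_eq_zero h (hA m) hj
  | add x _ y _ hx hy => rw [hx, hy, add_zero]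

theorem tmul_mk_eq_zero {S : Type u} [CommRing S] [Algebra B' S] (N : Submodule B' L)
    (hN : Function.Surjective (N.subtype.lTensor S)) (q : L ⧸ N) : (1 : S) ⊗ₜ[B'] q = 0 := by
  obtain ⟨q, rfl⟩ := Submodule.Quotient.mk_surjective _ q
  obtain ⟨z, hz⟩ := hN ((1 : S) ⊗ₜ[B'] q)
  have h3 := congrArg (N.mkQ.lTensor S) hz
  rw [← LinearMap.lTensor_comp_apply, LinearMap.range_le_ker_iff.mp (le_of_eq
      (by rw [Submodule.range_subtype, Submodule.ker_mkQ])), LinearMap.lTensor_zero,
    LinearMap.zero_apply, LinearMap.lTensor_tmul] at h3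
  exact h3.symm

/-- A submodule exhausting `L` over both `B` and `A'` is everything. -/
theorem eq_top_of_both (h : IsFibreSquare B' B A' A) (N : Submodule B' L)
    (h₁ : Function.Surjective (N.subtype.lTensor B)) (h₂ : Function.Surjective (N.subtype.lTensor A')) :
    N = ⊤ := by
  refine eq_top_iff.mpr fun l _ => ?_
  rw [← Submodule.Quotient.mk_eq_zero]
  exact eq_zero_of_tmul_eq_zero h (tmul_mk_eq_zero N h₁) (tmul_mk_eq_zero N h₂) _

end Square

section Glue

variable {B' B A' A : Type u} [CommRing B'] [CommRing B] [CommRing A'] [CommRing A]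
  [Algebra B' B] [Algebra B' A'] [Algebra B A] [Algebra A' A] [Algebra B' A]
  [IsScalarTower B' B A] [IsScalarTower B' A' A]
  {N M' : Type u} [AddCommGroup N] [Module B N] [Module B' N] [IsScalarTower B' B N]
  [AddCommGroup M'] [Module A' M'] [Module B' M'] [IsScalarTower B' A' M']
  (φ : A ⊗[B] N ≃ₗ[A] A ⊗[A'] M')

omit [IsScalarTower B' A' M'] [IsScalarTower B' B N] [Module B' N] [Module B' M'] in
theorem exists_tmul_right (h : Function.Surjective (algebraMap A' A)) (z : A ⊗[A'] M') :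
    ∃ m, (1 : A) ⊗ₜ[A'] m = z := by
  induction z using TensorProduct.induction_on with
  | zero => exact ⟨0, tmul_zero _ _⟩
  | tmul a m =>
    obtain ⟨a', rfl⟩ := h a
    exact ⟨a' • m, (tmul_smul_of_algebraMap a' m).symm⟩
  | add x y hx hy =>
    obtain ⟨p, rfl⟩ := hx
    obtain ⟨q, rfl⟩ := hy
    exact ⟨p + q, tmul_add _ _ _⟩

theorem glueFst_surjective (h : LiftKer B' B A' A) : Function.Surjective (glueFst B' φ) := fun n => by
  obtain ⟨m, hm⟩ := exists_tmul_right h.surj (φ ((1 : A) ⊗ₜ[B] n))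
  exact ⟨⟨(n, m), hm.symm⟩, rfl⟩

omit [IsScalarTower B' A' M'] [IsScalarTower B' B N] [Module B' N] [Module B' M'] in
theorem tmul_eq_zero_of_mem (m : M') (hm : m ∈ RingHom.ker (algebraMap A' A) • (⊤ : Submodule A' M')) :
    (1 : A) ⊗ₜ[A'] m = 0 := by
  induction hm using Submodule.smul_induction_on' with
  | smul i hi m _ => rw [← tmul_smul_of_algebraMap, RingHom.mem_ker.mp hi, zero_tmul]
  | add x _ y _ hx hy => rw [tmul_add, hx, hy, add_zero]

omit [IsScalarTower B' A' M'] [IsScalarTower B' B N] [Module B' N] [Module B' M'] in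
theorem mem_of_tmul_eq_zero (h : Function.Surjective (algebraMap A' A)) {m : M'}
    (hm : (1 : A) ⊗ₜ[A'] m = 0) : m ∈ RingHom.ker (algebraMap A' A) • (⊤ : Submodule A' M') := by
  have hex := rTensor_exact M' (LinearMap.exact_subtype_ker_map (Algebra.linearMap A' A)) h
  obtain ⟨w, hw⟩ := (hex ((1 : A') ⊗ₜ[A'] m)).mp (by simpa using hm)
  have h1 : ∀ w, TensorProduct.lid A' M'
      ((LinearMap.ker (Algebra.linearMap A' A)).subtype.rTensor M' w) ∈
        RingHom.ker (algebraMap A' A) • (⊤ : Submodule A' M') := by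
    intro w
    induction w using TensorProduct.induction_on with
    | zero => simp
    | tmul j l =>
      simp only [LinearMap.rTensor_tmul, Submodule.subtype_apply, lid_tmul]
      exact Submodule.smul_mem_smul j.2 Submodule.mem_top
    | add x y hx hy => rw [map_add, map_add]; exact add_mem hx hy
  have h2 := h1 w
  rwa [hw, lid_tmul, one_smul] at h2

theorem mem_span_range_glueSnd (h : LiftKer B' B A' A) (m : M') :
    m ∈ Submodule.span A' (Set.range (glueSnd B' φ)) := by
  set W := Submodule.span A' (Set.range (glueSnd B' φ))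
  have hker : ∀ k, (1 : A) ⊗ₜ[A'] k = 0 → k ∈ W := fun k hk =>
    Submodule.subset_span ⟨⟨(0, k), by
      show φ ((1 : A) ⊗ₜ[B] (0 : N)) = (1 : A) ⊗ₜ[A'] k
      rw [tmul_zero, map_zero, hk]⟩, rfl⟩
  suffices h1 : ∀ z, ∃ w ∈ W, φ z = (1 : A) ⊗ₜ[A'] w by
    obtain ⟨w, hw, hwz⟩ := h1 (φ.symm ((1 : A) ⊗ₜ[A'] m))
    rw [LinearEquiv.apply_symm_apply] at hwz
    have h2 := hker (m - w) (by rw [tmul_sub, hwz, sub_self])
    exact sub_add_cancel m w ▸ add_mem h2 hw
  intro z
  induction z using TensorProduct.induction_on with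
  | zero => exact ⟨0, zero_mem _, by simp⟩
  | tmul a n =>
    obtain ⟨a', rfl⟩ := h.surj a
    obtain ⟨x, hx⟩ := glueFst_surjective φ h n
    refine ⟨a' • glueSnd B' φ x, Submodule.smul_mem _ _ (Submodule.subset_span ⟨x, rfl⟩), ?_⟩
    have h3 : φ ((1 : A) ⊗ₜ[B] n) = (1 : A) ⊗ₜ[A'] glueSnd B' φ x := hx ▸ x.2
    rw [show algebraMap A' A a' ⊗ₜ[B] n = algebraMap A' A a' • ((1 : A) ⊗ₜ[B] n) by
      rw [smul_tmul', smul_eq_mul, mul_one], map_smul, h3, algebraMap_smul, tmul_smul]
  | add x y hx hy =>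
    obtain ⟨p, hp, hp'⟩ := hx
    obtain ⟨q, hq, hq'⟩ := hy
    exact ⟨p + q, add_mem hp hq, by rw [map_add, hp', hq', tmul_add]⟩

/-- The kernel of the first projection is generated by the kernel of `B' → B`. -/
theorem mem_smul_top_of_glueFst_eq_zero (h : LiftKer B' B A' A) {x : glue B' φ}
    (hx : glueFst B' φ x = 0) :
    x ∈ RingHom.ker (algebraMap B' B) • (⊤ : Submodule B' (glue B' φ)) := by
  set T : Submodule B' (glue B' φ) := RingHom.ker (algebraMap B' B) • ⊤
  have hm : glueSnd B' φ x ∈ RingHom.ker (algebraMap A' A) • (⊤ : Submodule A' M') := by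
    refine mem_of_tmul_eq_zero h.surj ?_
    have h1 : φ ((1 : A) ⊗ₜ[B] glueFst B' φ x) = (1 : A) ⊗ₜ[A'] glueSnd B' φ x := x.2
    rw [← h1, hx, tmul_zero, map_zero]
  have key : ∀ i, algebraMap A' A i = 0 → ∀ m : M', ∃ t ∈ T,
      glueFst B' φ t = 0 ∧ glueSnd B' φ t = i • m := by
    intro i hi m
    have hmW := mem_span_range_glueSnd φ h m
    revert i
    induction hmW using Submodule.span_induction with
    | mem m hm =>
      intro i hi
      obtain ⟨y, rfl⟩ := hm
      obtain ⟨j, hj, rfl⟩ := h.lift i hi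
      refine ⟨j • y, Submodule.smul_mem_smul hj Submodule.mem_top, ?_, ?_⟩
      · rw [map_smul, ← algebraMap_smul B j, hj, zero_smul]
      · rw [map_smul, algebraMap_smul]
    | zero => intro i hi; exact ⟨0, zero_mem _, map_zero _, by rw [map_zero, smul_zero]⟩
    | add p q _ _ hp hq =>
      intro i hi
      obtain ⟨s, hs, hs₁, hs₂⟩ := hp i hi
      obtain ⟨t, ht, ht₁, ht₂⟩ := hq i hi
      exact ⟨s + t, add_mem hs ht, by rw [map_add, hs₁, ht₁, add_zero],
        by rw [map_add, hs₂, ht₂, smul_add]⟩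
    | smul a p _ hp =>
      intro i hi
      obtain ⟨s, hs, hs₁, hs₂⟩ := hp (i * a) (by rw [map_mul, hi, zero_mul])
      exact ⟨s, hs, hs₁, by rw [hs₂, mul_smul]⟩
  have : ∃ t ∈ T, glueFst B' φ t = 0 ∧ glueSnd B' φ t = glueSnd B' φ x := by
    generalize glueSnd B' φ x = m at hm ⊢
    induction hm using Submodule.smul_induction_on' with
    | smul i hi m _ => exact key i hi m
    | add p _ q _ hp hq =>
      obtain ⟨s, hs, hs₁, hs₂⟩ := hp
      obtain ⟨t, ht, ht₁, ht₂⟩ := hq
      exact ⟨s + t, add_mem hs ht, by rw [map_add, hs₁, ht₁, add_zero], by rw [map_add, hs₂, ht₂]⟩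
  obtain ⟨t, ht, ht₁, ht₂⟩ := this
  exact (show t = x from Subtype.ext (Prod.ext (ht₁.trans hx.symm) ht₂)) ▸ ht

theorem tmul_eq_zero_of_mem_smul {S : Type u} [CommRing S] [Algebra B' S]
    {L : Type u} [AddCommGroup L] [Module B' L] (I : Ideal B') (hI : ∀ j ∈ I, algebraMap B' S j = 0)
    {x : L} (hx : x ∈ I • (⊤ : Submodule B' L)) : (1 : S) ⊗ₜ[B'] x = 0 := by
  induction hx using Submodule.smul_induction_on' with
  | smul i hi m _ => rw [← tmul_smul_of_algebraMap, hI i hi, zero_tmul]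
  | add x _ y _ hx hy => rw [tmul_add, hx, hy, add_zero]

theorem bijective_liftBaseChange_glueFst (h : LiftKer B' B A' A) :
    Function.Bijective (LinearMap.liftBaseChange B (glueFst B' φ)) := by
  constructor
  · rw [injective_iff_map_eq_zero]
    intro z hz
    obtain ⟨x, rfl⟩ := exists_tmul_eq h z
    rw [LinearMap.liftBaseChange_tmul, one_smul] at hz
    exact tmul_eq_zero_of_mem_smul _ (fun j hj => hj) (mem_smul_top_of_glueFst_eq_zero φ h hz)
  · intro n
    obtain ⟨x, hx⟩ := glueFst_surjective φ h n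
    exact ⟨(1 : B) ⊗ₜ[B'] x, by simp [hx]⟩

theorem bijective_liftBaseChange_glueSnd (h : LiftKer B' B A' A) :
    Function.Bijective (LinearMap.liftBaseChange A' (glueSnd B' φ)) := by
  constructor
  · rw [injective_iff_map_eq_zero]
    intro z hz
    have h1 : ∀ w : A' ⊗[B'] glue B' φ,
        φ (((glueFst B' φ).liftBaseChange B).baseChange A
          ((AlgebraTensorModule.cancelBaseChange B' B A A (glue B' φ)).symm
            ((IsScalarTower.toAlgHom B' A' A).toLinearMap.rTensor _ w))) =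
          (1 : A) ⊗ₜ[A'] (glueSnd B' φ).liftBaseChange A' w := by
      intro w
      induction w using TensorProduct.induction_on with
      | zero => simp
      | tmul a x =>
        have hx : φ ((1 : A) ⊗ₜ[B] glueFst B' φ x) = (1 : A) ⊗ₜ[A'] glueSnd B' φ x := x.2
        simp only [LinearMap.rTensor_tmul, AlgHom.toLinearMap_apply, IsScalarTower.coe_toAlgHom',
          AlgebraTensorModule.cancelBaseChange_symm_tmul, LinearMap.baseChange_tmul,
          LinearMap.liftBaseChange_tmul, one_smul]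
        rw [show algebraMap A' A a ⊗ₜ[B] glueFst B' φ x =
            algebraMap A' A a • ((1 : A) ⊗ₜ[B] glueFst B' φ x) by
          rw [smul_tmul', smul_eq_mul, mul_one], map_smul, hx, algebraMap_smul, tmul_smul]
      | add x y hx hy => simp only [map_add, hx, hy, tmul_add]
    have h2 : (IsScalarTower.toAlgHom B' A' A).toLinearMap.rTensor (glue B' φ) z = 0 := by
      have h3 := h1 z
      rw [hz, tmul_zero] at h3
      let e := LinearEquiv.ofBijective _ (bijective_liftBaseChange_glueFst φ h)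
      have h4 : ((glueFst B' φ).liftBaseChange B).baseChange A = (e.baseChange B A).toLinearMap :=
        TensorProduct.AlgebraTensorModule.ext fun a m => rfl
      rw [h4] at h3
      have h6 := φ.injective (h3.trans (map_zero φ).symm)
      exact (AlgebraTensorModule.cancelBaseChange B' B A A (glue B' φ)).symm.injective
        (((e.baseChange B A).injective (h6.trans (map_zero _).symm)).trans (map_zero _).symm)
    obtain ⟨w, rfl, hw⟩ := exists_of_rTensor_eq_zero h z h2
    rw [LinearMap.liftBaseChange_tmul, one_smul] at hz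
    have h5 : glueFst B' φ w = 0 := by
      have h7 := congrArg ((glueFst B' φ).liftBaseChange B) hw
      simpa using h7
    rw [show w = 0 from Subtype.ext (Prod.ext h5 hz), tmul_zero]
  · intro m
    have hm := mem_span_range_glueSnd φ h m
    induction hm using Submodule.span_induction with
    | mem m hm => obtain ⟨x, rfl⟩ := hm; exact ⟨(1 : A') ⊗ₜ[B'] x, by simp⟩
    | zero => exact ⟨0, map_zero _⟩
    | add p q _ _ hp hq =>
      obtain ⟨s, hs⟩ := hp
      obtain ⟨t, ht⟩ := hq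
      exact ⟨s + t, by rw [map_add, hs, ht]⟩
    | smul a p _ hp =>
      obtain ⟨s, hs⟩ := hp
      exact ⟨a • s, by rw [map_smul, hs]⟩

/-- The glued module is finite. -/
theorem finite_glue (h : LiftKer B' B A' A) [Module.Finite B N] [Module.Finite A' M'] :
    Module.Finite B' (glue B' φ) := by
  classical
  obtain ⟨s, hs⟩ := (inferInstance : Module.Finite B N).fg_top
  choose x hx using fun n : N => glueFst_surjective φ h n
  have hspan : Submodule.span A' (Set.range (glueSnd B' φ)) = ⊤ :=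
    eq_top_iff.mpr fun m _ => mem_span_range_glueSnd φ h m
  obtain ⟨t, ht, hts⟩ := (Submodule.fg_span_iff_fg_span_finset_subset _).mp
    (hspan ▸ (inferInstance : Module.Finite A' M').fg_top)
  choose y hy using fun m : t => ht m.2
  let G : Submodule B' (glue B' φ) := Submodule.span B' (x '' s) ⊔ Submodule.span B' (Set.range y)
  have hG : G.FG := (Submodule.fg_span (s.finite_toSet.image x)).sup
    (Submodule.fg_span (Set.finite_range y))
  have h1 : ∀ n, ∃ g ∈ G, glueFst B' φ g = n := by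
    intro n
    have hn : n ∈ Submodule.span B (s : Set N) := hs ▸ Submodule.mem_top
    induction hn using Submodule.span_induction with
    | mem n hn => exact ⟨x n, Submodule.mem_sup_left (Submodule.subset_span ⟨n, hn, rfl⟩), hx n⟩
    | zero => exact ⟨0, zero_mem _, map_zero _⟩
    | add p q _ _ hp hq =>
      obtain ⟨u, hu, hu'⟩ := hp
      obtain ⟨v, hv, hv'⟩ := hq
      exact ⟨u + v, add_mem hu hv, by rw [map_add, hu', hv']⟩
    | smul b p _ hp =>
      obtain ⟨u, hu, hu'⟩ := hp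
      obtain ⟨b', rfl⟩ := h.surjB b
      exact ⟨b' • u, Submodule.smul_mem _ _ hu, by rw [map_smul, hu', algebraMap_smul]⟩
  have key : ∀ m : M', ∀ i, algebraMap A' A i = 0 → ∃ g ∈ G,
      glueFst B' φ g = 0 ∧ glueSnd B' φ g = i • m := by
    intro m
    have hm : m ∈ Submodule.span A' (t : Set M') := by rw [← hts, hspan]; exact Submodule.mem_top
    induction hm using Submodule.span_induction with
    | mem m hm =>
      intro i hi
      obtain ⟨j, hj, rfl⟩ := h.lift i hi
      refine ⟨j • y ⟨m, hm⟩, Submodule.smul_mem _ _ (Submodule.mem_sup_right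
        (Submodule.subset_span ⟨_, rfl⟩)), ?_, ?_⟩
      · rw [map_smul, ← algebraMap_smul B j, hj, zero_smul]
      · rw [map_smul, hy, algebraMap_smul]
    | zero => intro i hi; exact ⟨0, zero_mem _, map_zero _, by rw [map_zero, smul_zero]⟩
    | add p q _ _ hp hq =>
      intro i hi
      obtain ⟨u, hu, hu₁, hu₂⟩ := hp i hi
      obtain ⟨v, hv, hv₁, hv₂⟩ := hq i hi
      exact ⟨u + v, add_mem hu hv, by rw [map_add, hu₁, hv₁, add_zero],
        by rw [map_add, hu₂, hv₂, smul_add]⟩
    | smul a p _ hp =>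
      intro i hi
      obtain ⟨u, hu, hu₁, hu₂⟩ := hp (i * a) (by rw [map_mul, hi, zero_mul])
      exact ⟨u, hu, hu₁, by rw [hu₂, mul_smul]⟩
  refine ⟨?_⟩
  rw [show (⊤ : Submodule B' (glue B' φ)) = G from (eq_top_iff.mpr fun z _ => ?_).symm]
  · exact hG
  obtain ⟨g, hg, hgz⟩ := h1 (glueFst B' φ z)
  have h2 : glueFst B' φ (z - g) = 0 := by rw [map_sub, hgz, sub_self]
  have h3 : glueSnd B' φ (z - g) ∈ RingHom.ker (algebraMap A' A) • (⊤ : Submodule A' M') := by
    refine mem_of_tmul_eq_zero h.surj ?_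
    have h4 : φ ((1 : A) ⊗ₜ[B] glueFst B' φ (z - g)) = (1 : A) ⊗ₜ[A'] glueSnd B' φ (z - g) :=
      (z - g).2
    rw [← h4, h2, tmul_zero, map_zero]
  obtain ⟨g', hg', hg₁, hg₂⟩ : ∃ g' ∈ G, glueFst B' φ g' = 0 ∧ glueSnd B' φ g' = glueSnd B' φ (z - g) := by
    generalize glueSnd B' φ (z - g) = m at h3 ⊢
    induction h3 using Submodule.smul_induction_on' with
    | smul i hi m _ => exact key m i hi
    | add p _ q _ hp hq =>
      obtain ⟨u, hu, hu₁, hu₂⟩ := hp
      obtain ⟨v, hv, hv₁, hv₂⟩ := hq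
      exact ⟨u + v, add_mem hu hv, by rw [map_add, hu₁, hv₁, add_zero], by rw [map_add, hu₂, hv₂]⟩
  rw [← sub_add_cancel z g, ← show g' = z - g from Subtype.ext (Prod.ext (hg₁.trans h2.symm) hg₂)]
  exact add_mem hg' hg

omit [IsScalarTower B' A' M'] [IsScalarTower B' B N] [Module B' N] [Module B' M'] in
/-- Surjectivity of glued maps. -/
theorem exists_lift_glue (hs : Function.Surjective (algebraMap A' A))
    {N₁ N₂ M₁' M₂' : Type u} [AddCommGroup N₁] [Module B N₁] [AddCommGroup N₂] [Module B N₂]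
    [AddCommGroup M₁'] [Module A' M₁'] [AddCommGroup M₂'] [Module A' M₂']
    (φ₁ : A ⊗[B] N₁ ≃ₗ[A] A ⊗[A'] M₁') (φ₂ : A ⊗[B] N₂ ≃ₗ[A] A ⊗[A'] M₂')
    (u : N₁ →ₗ[B] N₂) (v : M₁' →ₗ[A'] M₂')
    (hc : (v.baseChange A).comp φ₁.toLinearMap = φ₂.toLinearMap.comp (u.baseChange A))
    (hu : Function.Surjective u) (hv : Function.Surjective v) (n₂ : N₂) (m₂ : M₂')
    (hy : φ₂ ((1 : A) ⊗ₜ[B] n₂) = (1 : A) ⊗ₜ[A'] m₂) :
    ∃ n m, φ₁ ((1 : A) ⊗ₜ[B] n) = (1 : A) ⊗ₜ[A'] m ∧ u n = n₂ ∧ v m = m₂ := by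
  obtain ⟨n, rfl⟩ := hu n₂
  obtain ⟨m₁, rfl⟩ := hv m₂
  obtain ⟨d, hd⟩ := exists_tmul_right hs (φ₁ ((1 : A) ⊗ₜ[B] n) - (1 : A) ⊗ₜ[A'] m₁)
  have h1 : (1 : A) ⊗ₜ[A'] v d = 0 := by
    have h2 := congrArg (v.baseChange A) hd
    rw [LinearMap.baseChange_tmul, map_sub, LinearMap.baseChange_tmul,
      show v.baseChange A (φ₁ ((1 : A) ⊗ₜ[B] n)) = φ₂ (u.baseChange A ((1 : A) ⊗ₜ[B] n)) from
        LinearMap.congr_fun hc _, LinearMap.baseChange_tmul, hy, sub_self] at h2
    exact h2
  have h3 : ∃ e, (1 : A) ⊗ₜ[A'] e = 0 ∧ v e = v d := by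
    have hm := mem_of_tmul_eq_zero hs h1
    generalize v d = m at hm ⊢
    induction hm using Submodule.smul_induction_on' with
    | smul i hi m _ =>
      obtain ⟨p, rfl⟩ := hv m
      exact ⟨i • p, by rw [← tmul_smul_of_algebraMap, RingHom.mem_ker.mp hi, zero_tmul], map_smul v i p⟩
    | add x _ y _ hx hy =>
      obtain ⟨p, hp, rfl⟩ := hx
      obtain ⟨q, hq, rfl⟩ := hy
      exact ⟨p + q, by rw [tmul_add, hp, hq, add_zero], map_add v p q⟩
  obtain ⟨e, he, he'⟩ := h3
  refine ⟨n, m₁ + (d - e), ?_, rfl, by rw [map_add, map_sub, he', sub_self, add_zero]⟩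
  rw [tmul_add, tmul_sub, he, sub_zero, hd, add_sub_cancel]

end Glue

end Groth.L05.Mil
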