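import Groth.Agent.L05.Mil.Basic
import Groth.Agent.L05.Glue.Flat

/-!
# Milnor squares: flatness and finite presentation
-/

universe u

open TensorProduct

namespace Groth.L05.Mil

open EtMil

section Square

variable {B' B A' A : Type u} [CommRing B'] [CommRing B] [CommRing A'] [CommRing A]
  [Algebra B' B] [Algebra B' A'] [Algebra B A] [Algebra A' A] [Algebra B' A]
  [IsScalarTower B' B A] [IsScalarTower B' A' A]

theorem eq_zero_of_flat (h : IsFibreSquare B' B A' A) {P : Type u} [AddCommGroup P] [Module B' P]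
    [Module.Flat B' P] {p : P} (hB : (1 : B) ⊗ₜ[B'] p = 0) (hA : (1 : A') ⊗ₜ[B'] p = 0) : p = 0 := by
  let u₀ : B' →ₗ[B'] B × A' := (Algebra.linearMap B' B).prod (Algebra.linearMap B' A')
  have hu : Function.Injective u₀ := fun x y hxy => by
    obtain ⟨hx₁, hx₂⟩ := Prod.mk.inj hxy
    simp only [Algebra.linearMap_apply] at hx₁ hx₂
    exact (h.2 (algebraMap B' B x) (algebraMap B' A' x) (by
      rw [← IsScalarTower.algebraMap_apply, ← IsScalarTower.algebraMap_apply])).unique
      ⟨rfl, rfl⟩ ⟨hx₁.symm, hx₂.symm⟩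
  have h1 : u₀.rTensor P ((1 : B') ⊗ₜ[B'] p) = 0 := by
    have h2 : u₀ 1 = LinearMap.inl B' B A' 1 + LinearMap.inr B' B A' 1 := by simp [u₀]
    rw [LinearMap.rTensor_tmul, h2, add_tmul, ← LinearMap.rTensor_tmul, ← LinearMap.rTensor_tmul,
      hB, hA, map_zero, map_zero, add_zero]
  have h3 := Module.Flat.rTensor_preserves_injective_linearMap (M := P) u₀ hu
    (h1.trans (map_zero _).symm)
  simpa using congrArg (TensorProduct.lid B' P) h3

variable {K P L : Type u} [AddCommGroup K] [Module B' K] [AddCommGroup P] [Module B' P]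
  [AddCommGroup L] [Module B' L] (i : K →ₗ[B'] P) (π : P →ₗ[B'] L)

theorem exists_lift_ker (hs : Function.Surjective (algebraMap A' A)) (hex : Function.Exact i π)
    (hπ : Function.Surjective π) [Module.Flat A' (A' ⊗[B'] L)] (z : A ⊗[B'] K)
    (hz : i.lTensor A z = 0) :
    ∃ s : A' ⊗[B'] K, i.lTensor A' s = 0 ∧
      (IsScalarTower.toAlgHom B' A' A).toLinearMap.rTensor K s = z := by
  set r := (IsScalarTower.toAlgHom B' A' A).toLinearMap with hr
  obtain ⟨y, rfl⟩ := LinearMap.rTensor_surjective K (show Function.Surjective r from hs) z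
  have hexS : Function.Exact (i.baseChange A') (π.baseChange A') := by
    rw [LinearMap.baseChange_eq_ltensor, LinearMap.baseChange_eq_ltensor]
    exact lTensor_exact A' hex hπ
  have hsS : Function.Surjective (π.baseChange A') := by
    rw [LinearMap.baseChange_eq_ltensor]; exact LinearMap.lTensor_surjective A' hπ
  obtain ⟨W, _, _, v, hv, hvex, hWlift⟩ : ∃ (W : Type u) (_ : AddCommGroup W) (_ : Module A' W)
      (v : W →ₗ[A'] A' ⊗[B'] P), Function.Injective v ∧ Function.Exact v (π.baseChange A') ∧
        ∀ x, ∃ y₀, i.baseChange A' y₀ = v x :=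
    ⟨↥(LinearMap.range (i.baseChange A')), inferInstance, inferInstance,
      (LinearMap.range (i.baseChange A')).subtype, Submodule.injective_subtype _,
      LinearMap.exact_iff.mpr (by rw [Submodule.range_subtype]; exact LinearMap.exact_iff.mp hexS),
      fun x => x.2⟩
  obtain ⟨w, hw⟩ := (hvex (i.baseChange A' y)).mp (hexS.apply_apply_eq_zero y)
  have h1 : (1 : A) ⊗ₜ[A'] w = 0 := by
    apply Groth.L05.Glue.lTensor_injective_of_flat_coker v (π.baseChange A') hv hvex hsS A
    rw [map_zero, LinearMap.lTensor_tmul, hw]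
    apply (AlgebraTensorModule.cancelBaseChange B' A' A A P).injective
    have h2 : ∀ q : A' ⊗[B'] P, AlgebraTensorModule.cancelBaseChange B' A' A A P ((1 : A) ⊗ₜ[A'] q) =
        r.rTensor P q := by
      intro q
      induction q using TensorProduct.induction_on with
      | zero => simp
      | tmul a p => simp [r, Algebra.smul_def]
      | add a b ha hb => rw [tmul_add, map_add, ha, hb, map_add]
    rw [map_zero, h2]
    show r.rTensor P (i.lTensor A' y) = 0
    rw [← LinearMap.comp_apply, LinearMap.rTensor_comp_lTensor, ← LinearMap.lTensor_comp_rTensor,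
      LinearMap.comp_apply, hz]
  have h3 := mem_of_tmul_eq_zero hs h1
  have key : ∀ x : W, x ∈ RingHom.ker (algebraMap A' A) • (⊤ : Submodule A' W) →
      ∃ y', i.baseChange A' y' = v x ∧ r.rTensor K y' = 0 := by
    intro x hx
    induction hx using Submodule.smul_induction_on' with
    | smul c hc m _ =>
      obtain ⟨y₀, hy₀⟩ := hWlift m
      refine ⟨c • y₀, by rw [map_smul, hy₀, map_smul], ?_⟩
      have h4 : ∀ q : A' ⊗[B'] K, r.rTensor K (c • q) = 0 := by
        intro q
        induction q using TensorProduct.induction_on with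
        | zero => simp
        | tmul a k =>
          simp [smul_tmul', r, RingHom.mem_ker.mp hc]
        | add a b ha hb => rw [smul_add, map_add, ha, hb, add_zero]
      exact h4 y₀
    | add x _ y _ hx hy =>
      obtain ⟨p, hp, hp'⟩ := hx
      obtain ⟨q, hq, hq'⟩ := hy
      exact ⟨p + q, by rw [map_add, hp, hq, map_add], by rw [map_add, hp', hq', add_zero]⟩
  obtain ⟨y', hy', hy''⟩ := key w h3
  refine ⟨y - y', ?_, by rw [map_sub, hy'', sub_zero]⟩
  show i.baseChange A' (y - y') = 0
  rw [map_sub, hy', hw, sub_self]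

variable (h : IsFibreSquare B' B A' A) (hex : Function.Exact i π) (hπ : Function.Surjective π)

include h in
theorem lTensor_left_injective (hex : Function.Exact i π) (hπ : Function.Surjective π)
    (hi : Function.Injective i) [Module.Flat B' P] [Module.Flat A' (A' ⊗[B'] L)] :
    Function.Injective (i.lTensor B) := by
  rw [injective_iff_map_eq_zero]
  intro t ht
  obtain ⟨s, hs, hs'⟩ := exists_lift_ker i π h.1 hex hπ
    ((IsScalarTower.toAlgHom B' B A).toLinearMap.rTensor K t) (by
      rw [← LinearMap.comp_apply, LinearMap.lTensor_comp_rTensor, ← LinearMap.rTensor_comp_lTensor,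
        LinearMap.comp_apply, ht, map_zero])
  obtain ⟨k, hk, hk'⟩ := exists_pair (liftKer_of_isFibreSquare h) t s hs'.symm
  have h1 : i k = 0 := eq_zero_of_flat h
    (by rw [← LinearMap.lTensor_tmul, hk, ht]) (by rw [← LinearMap.lTensor_tmul, hk', hs])
  rw [← hk, show k = 0 from hi (h1.trans (map_zero i).symm), tmul_zero]

include h in
theorem lTensor_right_injective (hex : Function.Exact i π) (hπ : Function.Surjective π)
    (hi : Function.Injective i) [Module.Flat B' P] [Module.Flat A' (A' ⊗[B'] L)]
    [Module.Flat B (B ⊗[B'] L)] :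
    Function.Injective (i.lTensor A') := by
  rw [injective_iff_map_eq_zero]
  intro s hs
  have hA : (IsScalarTower.toAlgHom B' A' A).toLinearMap.rTensor K s = 0 := by
    apply Groth.L05.Glue.lTensor_injective_of_module B i π hex hπ
      (lTensor_left_injective i π h hex hπ hi) A
    rw [map_zero, ← LinearMap.comp_apply, LinearMap.lTensor_comp_rTensor,
      ← LinearMap.rTensor_comp_lTensor, LinearMap.comp_apply, hs, map_zero]
  obtain ⟨k, hk, hk'⟩ := exists_of_rTensor_eq_zero (liftKer_of_isFibreSquare h) s hA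
  have h1 : i k = 0 := eq_zero_of_flat h
    (by rw [← LinearMap.lTensor_tmul, hk', map_zero]) (by rw [← LinearMap.lTensor_tmul, hk, hs])
  rw [← hk, show k = 0 from hi (h1.trans (map_zero i).symm), tmul_zero]

include h in
theorem bijective_tmul_of_killed {X : Type u} [AddCommGroup X] [Module B' X]
    (hX : ∀ j : B', algebraMap B' B j = 0 → ∀ x : X, j • x = 0) :
    Function.Bijective fun x : X => (1 : B) ⊗ₜ[B'] x := by
  refine ⟨fun a b hab => ?_, fun y => exists_tmul_eq (liftKer_of_isFibreSquare h) y⟩
  have h1 := mem_smul_top_of_tmul_eq_zero (L := X) (l := a - b) (liftKer_of_isFibreSquare h)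
    (by rw [tmul_sub]; exact sub_eq_zero.mpr hab)
  have h2 : RingHom.ker (algebraMap B' B) • (⊤ : Submodule B' X) ≤ ⊥ :=
    Submodule.smul_le.mpr fun j hj x _ => (Submodule.mem_bot B').mpr (hX j hj x)
  exact sub_eq_zero.mp ((Submodule.mem_bot B').mp (h2 h1))

include h in
theorem lTensor_injective_of_killed (hex : Function.Exact i π) (hπ : Function.Surjective π)
    (hi : Function.Injective i) [Module.Flat B' P] [Module.Flat A' (A' ⊗[B'] L)]
    [Module.Flat B (B ⊗[B'] L)] (X : Type u) [AddCommGroup X] [Module B' X]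
    (hX : ∀ j : B', algebraMap B' B j = 0 → ∀ x : X, j • x = 0) :
    Function.Injective (i.lTensor X) := by
  let e : X ≃ₗ[B'] B ⊗[B'] X :=
    LinearEquiv.ofBijective (TensorProduct.mk B' B X 1) (bijective_tmul_of_killed h hX)
  have h1 := Groth.L05.Glue.lTensor_injective_of_module B i π hex hπ
    (lTensor_left_injective i π h hex hπ hi) (B ⊗[B'] X)
  intro x y hxy
  apply (e.rTensor K).injective
  apply h1
  show i.lTensor _ (e.toLinearMap.rTensor K x) = i.lTensor _ (e.toLinearMap.rTensor K y)
  rw [← LinearMap.comp_apply, ← LinearMap.comp_apply, LinearMap.lTensor_comp_rTensor,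
    ← LinearMap.rTensor_comp_lTensor, LinearMap.comp_apply, LinearMap.comp_apply, hxy]

include h in
theorem lTensor_injective_all {K₂ P₂ : Type u} [AddCommGroup K₂] [Module B' K₂] [AddCommGroup P₂]
    [Module B' P₂] [Module.Flat B' P₂] (i₂ : K₂ →ₗ[B'] P₂) (π₂ : P₂ →ₗ[B'] K)
    (hi₂ : Function.Injective i₂) (hex₂ : Function.Exact i₂ π₂) (hπ₂ : Function.Surjective π₂)
    (hex : Function.Exact i π) (hπ : Function.Surjective π)
    (hi : Function.Injective i) [Module.Flat B' P] [Module.Flat A' (A' ⊗[B'] L)]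
    [Module.Flat B (B ⊗[B'] L)] [Module.Flat A' (A' ⊗[B'] K)] [Module.Flat B (B ⊗[B'] K)]
    (C : Type u) [AddCommGroup C] [Module B' C] : Function.Injective (i.lTensor C) := by
  obtain ⟨W, _, _, g, v, hv, hg, hgv⟩ : ∃ (W : Type u) (_ : AddCommGroup W) (_ : Module B' W)
      (g : C →ₗ[B'] W) (v : W →ₗ[B'] A' ⊗[B'] C), Function.Injective v ∧ Function.Surjective g ∧
        v.comp g = TensorProduct.mk B' A' C 1 :=
    ⟨↥(LinearMap.range (TensorProduct.mk B' A' C 1)), inferInstance, inferInstance,
      LinearMap.rangeRestrict _, (LinearMap.range (TensorProduct.mk B' A' C 1)).subtype,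
      Submodule.injective_subtype _, LinearMap.surjective_rangeRestrict _, LinearMap.ext fun _ => rfl⟩
  obtain ⟨K₀, _, _, k₀, hk₀, hex₀, hkill⟩ : ∃ (K₀ : Type u) (_ : AddCommGroup K₀) (_ : Module B' K₀)
      (k₀ : K₀ →ₗ[B'] C), Function.Injective k₀ ∧ Function.Exact k₀ g ∧
        (∀ j : B', algebraMap B' B j = 0 → ∀ c : K₀, j • c = 0) := by
    refine ⟨↥(LinearMap.ker g), inferInstance, inferInstance, (LinearMap.ker g).subtype,
      Submodule.injective_subtype _, LinearMap.exact_subtype_ker_map g, fun j hj c => Subtype.ext ?_⟩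
    refine smul_eq_zero_of_tmul_eq_zero h ?_ hj
    show TensorProduct.mk B' A' C 1 (c : C) = 0
    rw [← hgv, LinearMap.comp_apply, LinearMap.mem_ker.mp c.2, map_zero]
  have hQ : ∀ j : B', algebraMap B' B j = 0 →
      ∀ q : (A' ⊗[B'] C) ⧸ LinearMap.range v, j • q = 0 := by
    intro j hj q
    obtain ⟨q, rfl⟩ := Submodule.Quotient.mk_surjective _ q
    rw [← Submodule.Quotient.mk_smul, Submodule.Quotient.mk_eq_zero]
    induction q using TensorProduct.induction_on with
    | zero => rw [smul_zero]; exact zero_mem _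
    | tmul a c =>
      obtain ⟨c₀, ⟨-, hc₀⟩, -⟩ := h.2 0 (algebraMap B' A' j * a) (by
        rw [map_zero, map_mul, ← IsScalarTower.algebraMap_apply,
          IsScalarTower.algebraMap_apply B' B A, hj, map_zero, zero_mul])
      refine ⟨g (c₀ • c), ?_⟩
      rw [← LinearMap.comp_apply, hgv]
      show (1 : A') ⊗ₜ[B'] (c₀ • c) = j • (a ⊗ₜ[B'] c)
      rw [← tmul_smul_of_algebraMap, hc₀, smul_tmul', Algebra.smul_def]
    | add a b ha hb => rw [smul_add]; exact add_mem ha hb
  rw [injective_iff_map_eq_zero]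
  intro z hz
  have h0 : (TensorProduct.mk B' A' C 1).rTensor K z = 0 := by
    apply Groth.L05.Glue.lTensor_injective_of_module A' i π hex hπ
      (lTensor_right_injective i π h hex hπ hi) (A' ⊗[B'] C)
    rw [map_zero, ← LinearMap.comp_apply, LinearMap.lTensor_comp_rTensor,
      ← LinearMap.rTensor_comp_lTensor, LinearMap.comp_apply, hz, map_zero]
  have hW : Function.Injective (v.rTensor K) :=
    Groth.L05.Glue.rTensor_injective_of_presentation i₂ π₂ hex₂ hπ₂ v hv
      (lTensor_injective_of_killed i₂ π₂ h hex₂ hπ₂ hi₂ _ hQ)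
  have h1 : g.rTensor K z = 0 := hW (by
    rw [map_zero, ← LinearMap.rTensor_comp_apply, hgv]; exact h0)
  obtain ⟨w, rfl⟩ := (rTensor_exact K hex₀ hg _).mp h1
  have h2 : i.lTensor K₀ w = 0 := by
    apply Module.Flat.rTensor_preserves_injective_linearMap (M := P) k₀ hk₀
    rw [map_zero, ← LinearMap.comp_apply, LinearMap.rTensor_comp_lTensor,
      ← LinearMap.lTensor_comp_rTensor, LinearMap.comp_apply, hz]
  rw [lTensor_injective_of_killed i π h hex hπ hi _ hkill (h2.trans (map_zero _).symm), map_zero]

end Square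

section Main

variable {B' B A' A : Type u} [CommRing B'] [CommRing B] [CommRing A'] [CommRing A]
  [Algebra B' B] [Algebra B' A'] [Algebra B A] [Algebra A' A] [Algebra B' A]
  [IsScalarTower B' B A] [IsScalarTower B' A' A]

open Groth.L05.Glue in
theorem flat_of_both (h : IsFibreSquare B' B A' A) (L : Type u) [AddCommGroup L] [Module B' L]
    [Module.Flat B (B ⊗[B'] L)] [Module.Flat A' (A' ⊗[B'] L)] : Module.Flat B' L := by
  obtain ⟨K, P, _, _, _, _, _, i, π, hi, hex, hπ⟩ := exists_flat_presentation B' L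
  obtain ⟨K₂, P₂, _, _, _, _, _, i₂, π₂, hi₂, hex₂, hπ₂⟩ := exists_flat_presentation B' K
  haveI : Module.Flat A' (A' ⊗[B'] K) :=
    flat_baseChange_ker A' i π hex hπ (lTensor_right_injective i π h hex hπ hi)
  haveI : Module.Flat B (B ⊗[B'] K) :=
    flat_baseChange_ker B i π hex hπ (lTensor_left_injective i π h hex hπ hi)
  rw [Module.Flat.iff_rTensor_injective']
  intro I
  exact rTensor_injective_of_presentation i π hex hπ I.subtype (Submodule.injective_subtype I)
    (lTensor_injective_all i π h i₂ π₂ hi₂ hex₂ hπ₂ hex hπ hi _)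

theorem flat_glue (h : IsFibreSquare B' B A' A)
    {N M' : Type u} [AddCommGroup N] [Module B N] [Module B' N] [IsScalarTower B' B N]
    [AddCommGroup M'] [Module A' M'] [Module B' M'] [IsScalarTower B' A' M']
    (φ : A ⊗[B] N ≃ₗ[A] A ⊗[A'] M') [Module.Flat B N] [Module.Flat A' M'] :
    Module.Flat B' (glue B' φ) := by
  haveI : Module.Flat B (B ⊗[B'] glue B' φ) := Module.Flat.of_linearEquiv
    (LinearEquiv.ofBijective _ (bijective_liftBaseChange_glueFst φ (liftKer_of_isFibreSquare h)))
  haveI : Module.Flat A' (A' ⊗[B'] glue B' φ) := Module.Flat.of_linearEquiv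
    (LinearEquiv.ofBijective _ (bijective_liftBaseChange_glueSnd φ (liftKer_of_isFibreSquare h)))
  exact flat_of_both h _

theorem finite_of_both (h : IsFibreSquare B' B A' A) (L : Type u) [AddCommGroup L] [Module B' L]
    [Module.Finite B (B ⊗[B'] L)] [Module.Finite A' (A' ⊗[B'] L)] : Module.Finite B' L := by
  obtain ⟨N₁, hN₁, hs₁⟩ := Groth.L05.Glue.exists_fg_lTensor_surjective (R := B') B L
  obtain ⟨N₂, hN₂, hs₂⟩ := Groth.L05.Glue.exists_fg_lTensor_surjective (R := B') A' L
  refine ⟨?_⟩
  rw [← eq_top_of_both h (N₁ ⊔ N₂) ?_ ?_]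
  · exact hN₁.sup hN₂
  · intro y
    obtain ⟨z, rfl⟩ := hs₁ y
    exact ⟨(Submodule.inclusion le_sup_left).lTensor B z, by rw [← LinearMap.lTensor_comp_apply]; rfl⟩
  · intro y
    obtain ⟨z, rfl⟩ := hs₂ y
    exact ⟨(Submodule.inclusion le_sup_right).lTensor A' z, by rw [← LinearMap.lTensor_comp_apply]; rfl⟩

/-- Kernels of presentations of finitely presented base changes are finite. -/
theorem finite_baseChange_ker {R : Type u} [CommRing R] (S : Type u) [CommRing S] [Algebra R S]
    {K P M : Type u} [AddCommGroup K] [Module R K] [AddCommGroup P] [Module R P] [AddCommGroup M]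
    [Module R M] (i : K →ₗ[R] P) (π : P →ₗ[R] M) (hex : Function.Exact i π)
    (hπ : Function.Surjective π) (hi : Function.Injective (i.lTensor S))
    [Module.Finite R P] [Module.FinitePresentation S (S ⊗[R] M)] :
    Module.Finite S (S ⊗[R] K) := by
  have hπS : Function.Surjective (π.baseChange S) := by
    rw [LinearMap.baseChange_eq_ltensor]; exact LinearMap.lTensor_surjective S hπ
  haveI : Module.Finite S (LinearMap.ker (π.baseChange S)) :=
    .of_fg (Module.FinitePresentation.fg_ker _ hπS)
  have hker : LinearMap.range (i.baseChange S) = LinearMap.ker (π.baseChange S) :=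
    (LinearMap.exact_iff.mp (by
      rw [LinearMap.baseChange_eq_ltensor, LinearMap.baseChange_eq_ltensor]
      exact lTensor_exact S hex hπ)).symm
  exact Module.Finite.equiv
    ((LinearEquiv.ofInjective (i.baseChange S) hi).trans (LinearEquiv.ofEq _ _ hker)).symm

theorem finitePresentation_of_both (h : IsFibreSquare B' B A' A) (L : Type u) [AddCommGroup L]
    [Module B' L] [Module.Flat B (B ⊗[B'] L)] [Module.FinitePresentation B (B ⊗[B'] L)]
    [Module.Flat A' (A' ⊗[B'] L)] [Module.FinitePresentation A' (A' ⊗[B'] L)] :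
    Module.FinitePresentation B' L := by
  haveI := finite_of_both h L
  obtain ⟨n, π, hπ⟩ := Module.Finite.exists_fin' B' L
  have hi : Function.Injective (LinearMap.ker π).subtype := Submodule.injective_subtype _
  have hex := LinearMap.exact_subtype_ker_map π
  haveI : Module.Finite B (B ⊗[B'] ↥(LinearMap.ker π)) :=
    finite_baseChange_ker B (K := ↥(LinearMap.ker π)) (LinearMap.ker π).subtype π hex hπ
      (lTensor_left_injective (K := ↥(LinearMap.ker π)) (LinearMap.ker π).subtype π h hex hπ hi)
  haveI : Module.Finite A' (A' ⊗[B'] ↥(LinearMap.ker π)) :=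
    finite_baseChange_ker A' (K := ↥(LinearMap.ker π)) (LinearMap.ker π).subtype π hex hπ
      (lTensor_right_injective (K := ↥(LinearMap.ker π)) (LinearMap.ker π).subtype π h hex hπ hi)
  exact Module.finitePresentation_of_surjective π hπ
    (Module.Finite.iff_fg.mp (finite_of_both h ↥(LinearMap.ker π)))

theorem finite_projective_glue (h : IsFibreSquare B' B A' A)
    {N M' : Type u} [AddCommGroup N] [Module B N] [Module B' N] [IsScalarTower B' B N]
    [AddCommGroup M'] [Module A' M'] [Module B' M'] [IsScalarTower B' A' M']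
    (φ : A ⊗[B] N ≃ₗ[A] A ⊗[A'] M') [Module.Finite B N] [Module.Projective B N]
    [Module.Finite A' M'] [Module.Projective A' M'] : Module.Projective B' (glue B' φ) := by
  let e₁ := LinearEquiv.ofBijective _ (bijective_liftBaseChange_glueFst φ (liftKer_of_isFibreSquare h))
  let e₂ := LinearEquiv.ofBijective _ (bijective_liftBaseChange_glueSnd φ (liftKer_of_isFibreSquare h))
  haveI : Module.Flat B (B ⊗[B'] glue B' φ) := Module.Flat.of_linearEquiv e₁
  haveI : Module.Flat A' (A' ⊗[B'] glue B' φ) := Module.Flat.of_linearEquiv e₂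
  haveI : Module.FinitePresentation B N := Module.finitePresentation_of_projective B N
  haveI : Module.FinitePresentation A' M' := Module.finitePresentation_of_projective A' M'
  haveI : Module.FinitePresentation B (B ⊗[B'] glue B' φ) := Module.FinitePresentation.of_equiv e₁.symm
  haveI : Module.FinitePresentation A' (A' ⊗[B'] glue B' φ) := Module.FinitePresentation.of_equiv e₂.symm
  haveI := flat_glue h φ
  haveI := finitePresentation_of_both h ↥(glue B' φ)
  exact Module.Flat.projective_of_finitePresentation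

theorem pair_injective_and_exists (h : IsFibreSquare B' B A' A) (L : Type u) [AddCommGroup L]
    [Module B' L] [Module.Flat B' L] :
    Function.Injective (fun l : L => (((1 : B) ⊗ₜ[B'] l : B ⊗[B'] L), ((1 : A') ⊗ₜ[B'] l : A' ⊗[B'] L))) ∧
      ∀ (x : B ⊗[B'] L) (y : A' ⊗[B'] L),
        (IsScalarTower.toAlgHom B' B A).toLinearMap.rTensor L x =
          (IsScalarTower.toAlgHom B' A' A).toLinearMap.rTensor L y →
          ∃ l : L, (1 : B) ⊗ₜ[B'] l = x ∧ (1 : A') ⊗ₜ[B'] l = y := by
  refine ⟨fun a b hab => sub_eq_zero.mp (eq_zero_of_flat h ?_ ?_),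
    fun x y hxy => exists_pair (liftKer_of_isFibreSquare h) x y hxy⟩
  · rw [tmul_sub]; exact sub_eq_zero.mpr (congrArg Prod.fst hab)
  · rw [tmul_sub]; exact sub_eq_zero.mpr (congrArg Prod.snd hab)

end Main

end Groth.L05.Mil
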