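import Groth.Agent.L05.Mil.Basic
import Mathlib.RingTheory.Spectrum.Prime.Topology
import Mathlib.Topology.Category.TopCat.Limits.Pullbacks
import Mathlib.CategoryTheory.Limits.Shapes.Pullback.IsPullback.Defs

/-!
# The spectrum of a Milnor square
-/

universe u

open CategoryTheory PrimeSpectrum

namespace Groth.L05.Mil

open EtMil

variable {B' B A' A : Type u} [CommRing B'] [CommRing B] [CommRing A'] [CommRing A]
  [Algebra B' B] [Algebra B' A'] [Algebra B A] [Algebra A' A] [Algebra B' A]
  [IsScalarTower B' B A] [IsScalarTower B' A' A]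

theorem comap_comm (a : PrimeSpectrum A) :
    comap (algebraMap B' B) (comap (algebraMap B A) a) =
      comap (algebraMap B' A') (comap (algebraMap A' A) a) := by
  refine PrimeSpectrum.ext ?_
  simp only [comap_asIdeal, Ideal.comap_comap, ← IsScalarTower.algebraMap_eq]

theorem exists_of_not_le (h : IsFibreSquare B' B A' A) (p : PrimeSpectrum B')
    (hp : ¬ RingHom.ker (algebraMap B' B) ≤ p.asIdeal) :
    ∃ q : PrimeSpectrum A', comap (algebraMap B' A') q = p ∧
      ∀ (a : A') (r j : B'), j ∈ RingHom.ker (algebraMap B' B) → j ∉ p.asIdeal →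
        algebraMap B' B r = 0 → algebraMap B' A' r = algebraMap B' A' j * a →
        (a ∈ q.asIdeal ↔ r ∈ p.asIdeal) := by
  obtain ⟨j, hj, hjp⟩ := SetLike.not_le_iff_exists.mp hp
  have hc : ∀ a : A', ∃! c, algebraMap B' B c = 0 ∧ algebraMap B' A' c = algebraMap B' A' j * a :=
    fun a => h.2 0 _ (by
      rw [map_zero, map_mul, ← IsScalarTower.algebraMap_apply, IsScalarTower.algebraMap_apply B' B A,
        RingHom.mem_ker.mp hj, map_zero, zero_mul])
  choose c hc hcu using hc
  have hcadd : ∀ a b, c (a + b) = c a + c b := fun a b => (hcu _ _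
    ⟨by rw [map_add, (hc a).1, (hc b).1, add_zero], by rw [map_add, (hc a).2, (hc b).2, mul_add]⟩).symm
  have hcr : ∀ (r : B') (a : A'), r * c a = c (algebraMap B' A' r * a) := fun r a => hcu _ _
    ⟨by rw [map_mul, (hc a).1, mul_zero], by rw [map_mul, (hc a).2]; ring⟩
  have hc1 : c 1 = j := (hcu 1 j ⟨RingHom.mem_ker.mp hj, (mul_one _).symm⟩).symm
  have hcmul : ∀ a b, c a * c b = j * c (a * b) := fun a b => by
    rw [hcr (c a) b, (hc a).2, hcr j (a * b)]
    congr 1; ring
  let q : Ideal A' :=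
    { carrier := {a | c a ∈ p.asIdeal}
      add_mem' := fun {a b} ha hb => show c (a + b) ∈ p.asIdeal from hcadd a b ▸ add_mem ha hb
      zero_mem' := show c 0 ∈ p.asIdeal by
        rw [(hcu 0 0 ⟨map_zero _, by rw [map_zero, mul_zero]⟩).symm]; exact zero_mem _
      smul_mem' := fun r a ha => show c (r * a) ∈ p.asIdeal from
        (p.2.mem_or_mem (hcmul r a ▸ Ideal.mul_mem_left _ (c r) ha)).resolve_left hjp }
  have hq : q.IsPrime := by
    refine ⟨(Ideal.ne_top_iff_one _).mpr (fun h1 => hjp (hc1 ▸ h1)), fun {a b} hab => ?_⟩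
    have hab' : c (a * b) ∈ p.asIdeal := hab
    exact (show c a ∈ p.asIdeal ∨ c b ∈ p.asIdeal from
      p.2.mem_or_mem (hcmul a b ▸ Ideal.mul_mem_left _ j hab'))
  refine ⟨⟨q, hq⟩, PrimeSpectrum.ext (Ideal.ext fun r => ?_), fun a r j' hj' hj'p hr hr' => ?_⟩
  · show c (algebraMap B' A' r) ∈ p.asIdeal ↔ r ∈ p.asIdeal
    rw [← mul_one (algebraMap B' A' r), ← hcr, hc1]
    exact ⟨fun h => (p.2.mem_or_mem h).resolve_right hjp, fun h => Ideal.mul_mem_right _ _ h⟩
  · show c a ∈ p.asIdeal ↔ r ∈ p.asIdeal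
    have h1 : j' * c a = j * r := by
      rw [hcr j' a, mul_comm j r, show r * j = r * c 1 by rw [hc1], hcr r 1, hr', mul_one]
    constructor
    · intro ha
      exact (p.2.mem_or_mem (h1 ▸ Ideal.mul_mem_left _ j' ha : j * r ∈ p.asIdeal)).resolve_left hjp
    · intro hr
      exact (p.2.mem_or_mem (h1.symm ▸ Ideal.mul_mem_left _ j hr : j' * c a ∈ p.asIdeal)).resolve_left hj'p

theorem comap_injective_of_not_le (h : IsFibreSquare B' B A' A) {q q' : PrimeSpectrum A'}
    (hq : ¬ RingHom.ker (algebraMap A' A) ≤ q.asIdeal)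
    (he : comap (algebraMap B' A') q = comap (algebraMap B' A') q') : q = q' := by
  obtain ⟨i, hi, hiq⟩ := SetLike.not_le_iff_exists.mp hq
  obtain ⟨j, hj, rfl⟩ := (liftKer_of_isFibreSquare h).lift i hi
  have hiq' : algebraMap B' A' j ∉ q'.asIdeal := fun hh => hiq (by
    have : j ∈ (comap (algebraMap B' A') q').asIdeal := hh
    rw [← he] at this; exact this)
  refine PrimeSpectrum.ext (Ideal.ext fun a => ?_)
  obtain ⟨c, ⟨-, hc⟩, -⟩ := h.2 0 (algebraMap B' A' j * a) (by
    rw [map_zero, map_mul, RingHom.mem_ker.mp hi, zero_mul])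
  have h1 : c ∈ (comap (algebraMap B' A') q).asIdeal ↔ c ∈ (comap (algebraMap B' A') q').asIdeal := by
    rw [he]
  simp only [comap_asIdeal, Ideal.mem_comap, hc] at h1
  exact ⟨fun ha => (q'.2.mem_or_mem (h1.mp (Ideal.mul_mem_left _ _ ha))).resolve_left hiq',
    fun ha => (q.2.mem_or_mem (h1.mpr (Ideal.mul_mem_left _ _ ha))).resolve_left hiq⟩

theorem isClosed_of_preimages (h : IsFibreSquare B' B A' A) (Z : Set (PrimeSpectrum B'))
    (h₁ : IsClosed (comap (algebraMap B' B) ⁻¹' Z)) (h₂ : IsClosed (comap (algebraMap B' A') ⁻¹' Z)) :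
    IsClosed Z := by
  have hl := liftKer_of_isFibreSquare h
  obtain ⟨b, hb⟩ := (isClosed_iff_zeroLocus_ideal _).mp h₁
  obtain ⟨a, ha⟩ := (isClosed_iff_zeroLocus_ideal _).mp h₂
  have hbA : ∀ s : PrimeSpectrum A, comap (algebraMap A' A) s ∈ zeroLocus (a : Set A') →
      comap (algebraMap B A) s ∈ zeroLocus (b : Set B) := fun s hs => by
    rw [← hb, Set.mem_preimage, comap_comm (A' := A')]
    rw [← ha, Set.mem_preimage] at hs
    exact hs
  rw [isClosed_iff_zeroLocus_ideal]
  refine ⟨b.comap (algebraMap B' B) * a.comap (algebraMap B' A'), ?_⟩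
  rw [zeroLocus_mul]
  ext p
  constructor
  · intro hp
    by_cases hJ : RingHom.ker (algebraMap B' B) ≤ p.asIdeal
    · left
      obtain ⟨s, rfl⟩ : p ∈ Set.range (comap (algebraMap B' B)) := by
        rw [range_comap_of_surjective _ _ hl.surjB]; exact hJ
      have hs : s ∈ zeroLocus (b : Set B) := hb ▸ hp
      exact fun x hx => hs hx
    · right
      obtain ⟨q, rfl, -⟩ := exists_of_not_le h p hJ
      have hs : q ∈ zeroLocus (a : Set A') := ha ▸ hp
      exact fun x hx => hs hx
  · intro hp
    by_cases hJ : RingHom.ker (algebraMap B' B) ≤ p.asIdeal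
    · obtain ⟨s, rfl⟩ : p ∈ Set.range (comap (algebraMap B' B)) := by
        rw [range_comap_of_surjective _ _ hl.surjB]; exact hJ
      show s ∈ comap (algebraMap B' B) ⁻¹' Z
      rw [hb]
      intro x hx
      obtain ⟨x', rfl⟩ := hl.surjB x
      rcases hp with hp | hp
      · exact hp hx
      · have h1 : algebraMap B A (algebraMap B' B x') ∈ (a.map (algebraMap A' A)).radical := by
          rw [← vanishingIdeal_zeroLocus_eq_radical, mem_vanishingIdeal]
          intro t ht
          exact hbA t (fun y hy => ht (Ideal.mem_map_of_mem _ hy)) hx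
        obtain ⟨n, hn⟩ := h1
        obtain ⟨a₀, ha₀, hae⟩ := (Ideal.mem_map_iff_of_surjective _ hl.surj).mp hn
        obtain ⟨y, ⟨hy₁, hy₂⟩, -⟩ := h.2 (algebraMap B' B x' ^ n) a₀ (by rw [map_pow]; exact hae.symm)
        have hy : y ∈ (comap (algebraMap B' B) s).asIdeal := hp (show y ∈ a.comap (algebraMap B' A') by rw [Ideal.mem_comap, hy₂]; exact ha₀)
        have hy' : algebraMap B' B y ∈ s.asIdeal := hy
        rw [hy₁] at hy'
        exact s.2.mem_of_pow_mem n hy'
    · obtain ⟨q, rfl, hq⟩ := exists_of_not_le h p hJ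
      obtain ⟨j, hj, hjp⟩ := SetLike.not_le_iff_exists.mp hJ
      show q ∈ comap (algebraMap B' A') ⁻¹' Z
      rw [ha]
      intro x hx
      obtain ⟨r, ⟨hr, hr'⟩, -⟩ := h.2 0 (algebraMap B' A' j * x) (by
        rw [map_zero, map_mul, ← IsScalarTower.algebraMap_apply, IsScalarTower.algebraMap_apply B' B A,
          RingHom.mem_ker.mp hj, map_zero, zero_mul])
      refine (hq x r j hj hjp hr hr').mpr ?_
      rcases hp with hp | hp
      · exact hp (show r ∈ b.comap _ by rw [Ideal.mem_comap, hr]; exact zero_mem _)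
      · exact hp (show r ∈ a.comap _ by rw [Ideal.mem_comap, hr']; exact Ideal.mul_mem_left _ _ hx)

theorem exists_desc (h : IsFibreSquare B' B A' A) {W : Type*} (l : PrimeSpectrum B → W)
    (r : PrimeSpectrum A' → W)
    (hc : ∀ a, l (comap (algebraMap B A) a) = r (comap (algebraMap A' A) a)) :
    ∃ G : PrimeSpectrum B' → W, (∀ s, G (comap (algebraMap B' B) s) = l s) ∧
      (∀ q, G (comap (algebraMap B' A') q) = r q) ∧
      ∀ G' : PrimeSpectrum B' → W, (∀ s, G' (comap (algebraMap B' B) s) = l s) →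
        (∀ q, G' (comap (algebraMap B' A') q) = r q) → G' = G := by
  have hl := liftKer_of_isFibreSquare h
  have hBinj := comap_injective_of_surjective _ hl.surjB
  have hex : ∀ p : PrimeSpectrum B', ∃ w, (∀ s, comap (algebraMap B' B) s = p → l s = w) ∧
      (∀ q, comap (algebraMap B' A') q = p → r q = w) ∧
      ((∃ s, comap (algebraMap B' B) s = p ∧ l s = w) ∨ ∃ q, comap (algebraMap B' A') q = p ∧ r q = w) := by
    intro p
    by_cases hJ : RingHom.ker (algebraMap B' B) ≤ p.asIdeal
    · obtain ⟨s, rfl⟩ : p ∈ Set.range (comap (algebraMap B' B)) := by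
        rw [range_comap_of_surjective _ _ hl.surjB]; exact hJ
      refine ⟨l s, fun s' hs => congrArg l (hBinj hs), fun q hq => ?_, Or.inl ⟨s, rfl, rfl⟩⟩
      have hle : RingHom.ker (algebraMap A' A) ≤ q.asIdeal := by
        intro i hi
        obtain ⟨j, hj, rfl⟩ := hl.lift i hi
        have h1 : j ∈ (comap (algebraMap B' A') q).asIdeal := by
          rw [hq]
          show algebraMap B' B j ∈ s.asIdeal
          rw [hj]; exact zero_mem _
        exact h1
      obtain ⟨a, rfl⟩ : q ∈ Set.range (comap (algebraMap A' A)) := by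
        rw [range_comap_of_surjective _ _ hl.surj]; exact hle
      rw [hBinj (hq.symm.trans (comap_comm a).symm), hc]
    · obtain ⟨q, rfl, -⟩ := exists_of_not_le h p hJ
      refine ⟨r q, fun s hs => absurd (fun j hj => ?_) hJ, fun q' hq' => congrArg r ?_,
        Or.inr ⟨q, rfl, rfl⟩⟩
      · rw [← hs]
        show algebraMap B' B j ∈ s.asIdeal
        rw [RingHom.mem_ker.mp hj]; exact zero_mem _
      · refine (comap_injective_of_not_le h (fun hle => hJ fun j hj => ?_) hq'.symm).symm
        show algebraMap B' A' j ∈ q.asIdeal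
        refine hle (RingHom.mem_ker.mpr ?_)
        rw [← IsScalarTower.algebraMap_apply, IsScalarTower.algebraMap_apply B' B A,
          RingHom.mem_ker.mp hj, map_zero]
  choose G hG₁ hG₂ hG₃ using hex
  refine ⟨G, fun s => (hG₁ _ s rfl).symm, fun q => (hG₂ _ q rfl).symm, fun G' h₁ h₂ => funext fun p => ?_⟩
  rcases hG₃ p with ⟨s, rfl, hs⟩ | ⟨q, rfl, hq⟩
  · rw [h₁, hs]
  · rw [h₂, hq]

theorem isPushout_spectrum (h : IsFibreSquare B' B A' A) :
    IsPushout (TopCat.ofHom (ContinuousMap.mk (comap (algebraMap B A)) (continuous_comap _)))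
      (TopCat.ofHom (ContinuousMap.mk (comap (algebraMap A' A)) (continuous_comap _)))
      (TopCat.ofHom (ContinuousMap.mk (comap (algebraMap B' B)) (continuous_comap _)))
      (TopCat.ofHom (ContinuousMap.mk (comap (algebraMap B' A')) (continuous_comap _))) := by
  refine ⟨⟨TopCat.hom_ext (ContinuousMap.ext fun a => comap_comm a)⟩,
    ⟨Limits.PushoutCocone.IsColimit.mk _ (fun c => ?_) (fun c => ?_) (fun c => ?_) (fun c m hm₁ hm₂ => ?_)⟩⟩
  · refine TopCat.ofHom ⟨(exists_desc h c.inl c.inr
      fun a => ConcreteCategory.congr_hom c.condition a).choose, ?_⟩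
    have hG := (exists_desc h c.inl c.inr fun a => ConcreteCategory.congr_hom c.condition a).choose_spec
    refine continuous_iff_isClosed.mpr fun S hS => isClosed_of_preimages h _ ?_ ?_
    · convert hS.preimage c.inl.hom.continuous using 1
      ext s
      simp only [Set.mem_preimage, hG.1]
    · convert hS.preimage c.inr.hom.continuous using 1
      ext q
      simp only [Set.mem_preimage, hG.2.1]
  · exact TopCat.hom_ext (ContinuousMap.ext (exists_desc h c.inl c.inr
      fun a => ConcreteCategory.congr_hom c.condition a).choose_spec.1)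
  · exact TopCat.hom_ext (ContinuousMap.ext (exists_desc h c.inl c.inr
      fun a => ConcreteCategory.congr_hom c.condition a).choose_spec.2.1)
  · refine TopCat.hom_ext (ContinuousMap.ext fun p => ?_)
    exact congrFun ((exists_desc h c.inl c.inr
      fun a => ConcreteCategory.congr_hom c.condition a).choose_spec.2.2 m
        (fun s => ConcreteCategory.congr_hom hm₁ s) (fun q => ConcreteCategory.congr_hom hm₂ q)) p

end Groth.L05.Mil
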